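import Mathlib.AlgebraicGeometry.Morphisms.Immersion
import Mathlib.RingTheory.LocalRing.MaximalIdeal.Basic
import Mathlib.RingTheory.Spectrum.Prime.Topology
import Mathlib.RingTheory.Localization.AtPrime.Basic
import Mathlib.RingTheory.Filtration
import Mathlib.AlgebraicGeometry.Stalk
import Mathlib.AlgebraicGeometry.Noetherian

/-!
# Immersions into affine schemes through which enough points factor are isomorphisms
-/

set_option autoImplicit false
set_option linter.style.haveILetI false
set_option backward.isDefEq.respectTransparency false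
set_option backward.isDefEq.respectTransparency.types false

universe u

open CategoryTheory Limits AlgebraicGeometry

namespace Groth.Agent.Lib.SubEq

/-- An immersion into an affine scheme containing all closed points is a closed immersion. -/
theorem isClosedImmersion_of_closedPoints {E : Scheme.{u}} {B : CommRingCat.{u}} (j : E ⟶ Spec B)
    [IsImmersion j] (hcl : ∀ m : PrimeSpectrum B, m.asIdeal.IsMaximal → (m : Spec B) ∈ Set.range j) :
    IsClosedImmersion j := by
  have htop : (j.coborderRange : Set (Spec B)) = Set.univ := Set.eq_univ_of_forall fun z => by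
    obtain ⟨m, hm, hzm⟩ := Ideal.exists_le_maximal (PrimeSpectrum.asIdeal z) z.2.ne_top
    obtain ⟨w, hw⟩ := hcl ⟨m, hm.isPrime⟩ hm
    refine ((PrimeSpectrum.le_iff_specializes z ⟨m, hm.isPrime⟩).mp hzm).mem_open j.coborderRange.2 ?_
    rw [← hw]
    exact subset_coborder ⟨w, rfl⟩
  haveI : IsIso j.coborderRange.ι := by
    haveI : Epi j.coborderRange.ι.base := by
      rw [TopCat.epi_iff_surjective]
      exact fun z => ⟨⟨z, htop.ge trivial⟩, rfl⟩
    exact IsOpenImmersion.isIso j.coborderRange.ι
  rw [← Scheme.Hom.liftCoborder_ι j]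
  infer_instance

/-- A closed immersion into an affine scheme through which a jointly injective family of ring maps
factors is an isomorphism. -/
theorem isIso_of_closedImmersion {E : Scheme.{u}} {B : CommRingCat.{u}} (j : E ⟶ Spec B) [IsClosedImmersion j]
    (h : ∀ r : B, (∀ (D : CommRingCat.{u}) (π : B ⟶ D) (l : Spec D ⟶ E), l ≫ j = Spec.map π →
      π.hom r = 0) → r = 0) : IsIso j := by
  refine IsClosedImmersion.isIso_of_injective_of_isAffine ?_
  rw [injective_iff_map_eq_zero]
  intro z hz
  obtain ⟨r, rfl⟩ : ∃ r, (Scheme.ΓSpecIso B).inv r = z :=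
    (ConcreteCategory.bijective_of_isIso (Scheme.ΓSpecIso B).inv).2 z
  suffices r = 0 by rw [this, map_zero]
  refine h r fun D π l hl => ?_
  have h0 : (Spec.map π).appTop ((Scheme.ΓSpecIso B).inv r) = 0 := by
    rw [← hl, Scheme.Hom.comp_appTop, CommRingCat.comp_apply, hz, map_zero]
  rw [← CommRingCat.comp_apply, ← Scheme.ΓSpecIso_inv_naturality, CommRingCat.comp_apply] at h0
  exact (map_eq_zero_iff _ (ConcreteCategory.bijective_of_isIso (Scheme.ΓSpecIso D).inv).1).mp h0

/-- An immersion into an affine scheme which contains the closed points, and through which a jointly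
injective family of ring maps factors, is an isomorphism. -/
theorem isIso_of_immersion {E : Scheme.{u}} {B : CommRingCat.{u}} (j : E ⟶ Spec B) [IsImmersion j]
    (hcl : ∀ m : PrimeSpectrum B, m.asIdeal.IsMaximal → (m : Spec B) ∈ Set.range j)
    (h : ∀ r : B, (∀ (D : CommRingCat.{u}) (π : B ⟶ D) (l : Spec D ⟶ E), l ≫ j = Spec.map π →
      π.hom r = 0) → r = 0) : IsIso j :=
  haveI := isClosedImmersion_of_closedPoints j hcl
  isIso_of_closedImmersion j h

/-- A morphism from an affine scheme factors through an immersion if its restrictions to all local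
rings at maximal ideals do. -/
theorem exists_lift_of_local {E X : Scheme.{u}} {B : CommRingCat.{u}} (j : E ⟶ X) [IsImmersion j]
    (y : Spec B ⟶ X)
    (h : ∀ (m : Ideal B) [m.IsMaximal], ∃ l : Spec (CommRingCat.of (Localization.AtPrime m)) ⟶ E,
      l ≫ j = Spec.map (CommRingCat.ofHom (algebraMap B (Localization.AtPrime m))) ≫ y) :
    ∃ l : Spec B ⟶ E, l ≫ j = y := by
  have key : ∀ (m : Ideal B) [m.IsMaximal],
      ∃ l : Spec (CommRingCat.of (Localization.AtPrime m)) ⟶ pullback j y,
        l ≫ pullback.snd j y = Spec.map (CommRingCat.ofHom (algebraMap B (Localization.AtPrime m))) :=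
    fun m hm => by
    obtain ⟨l, hl⟩ := h m
    exact ⟨pullback.lift l _ hl, pullback.lift_snd _ _ _⟩
  haveI : IsIso (pullback.snd j y) := by
    refine isIso_of_immersion _ (fun m hm => ?_) (fun r hr => ?_)
    · haveI := hm
      obtain ⟨l, hl⟩ := key m.asIdeal
      refine ⟨l (IsLocalRing.closedPoint (Localization.AtPrime m.asIdeal)), ?_⟩
      rw [← Scheme.Hom.comp_apply, hl]
      exact PrimeSpectrum.ext (Localization.AtPrime.under_maximalIdeal (I := m.asIdeal))
    · by_contra hr0
      have hne : Ideal.span {r} ≠ ⊥ := by simpa using hr0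
      obtain ⟨m, hm, hann⟩ := Ideal.exists_le_maximal (Submodule.annihilator (Ideal.span {r})) (by
        rw [Ne, Ideal.eq_top_iff_one, Submodule.mem_annihilator]
        intro h1
        exact hr0 (by simpa using h1 r (Ideal.mem_span_singleton_self r)))
      haveI := hm
      obtain ⟨l, hl⟩ := key m
      have h0 := hr (CommRingCat.of (Localization.AtPrime m)) _ l hl
      obtain ⟨⟨c, hc⟩, hcr⟩ := (IsLocalization.map_eq_zero_iff m.primeCompl _ r).mp h0
      refine hc (hann (Submodule.mem_annihilator.mpr fun x hx => ?_))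
      obtain ⟨d, rfl⟩ := Ideal.mem_span_singleton'.mp hx
      rw [smul_eq_mul, mul_left_comm, hcr, mul_zero]
  exact ⟨inv (pullback.snd j y) ≫ pullback.fst j y, by
    rw [Category.assoc, pullback.condition, IsIso.inv_hom_id_assoc]⟩

/-- Two morphisms from an affine scheme equal on all local rings at maximal ideals are equal. -/
theorem eq_of_local {X : Scheme.{u}} {B : CommRingCat.{u}} (a b : Spec B ⟶ X)
    (h : ∀ (m : Ideal B) [m.IsMaximal],
      Spec.map (CommRingCat.ofHom (algebraMap B (Localization.AtPrime m))) ≫ a =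
        Spec.map (CommRingCat.ofHom (algebraMap B (Localization.AtPrime m))) ≫ b) : a = b := by
  let j := pullback.fst (prod.lift a b) (prod.lift (𝟙 X) (𝟙 X))
  haveI : IsImmersion j := inferInstance
  obtain ⟨l, hl⟩ := exists_lift_of_local j (𝟙 (Spec B)) fun m hm => by
    haveI := hm
    refine ⟨pullback.lift (Spec.map (CommRingCat.ofHom (algebraMap B (Localization.AtPrime m))))
      (Spec.map (CommRingCat.ofHom (algebraMap B (Localization.AtPrime m))) ≫ a) ?_,
      (pullback.lift_fst _ _ _).trans (Category.comp_id _).symm⟩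
    refine Limits.prod.hom_ext ?_ ?_
    · simp
    · simp [h m]
  have hc := congr(l ≫ $(pullback.condition (f := prod.lift a b) (g := prod.lift (𝟙 X) (𝟙 X))))
  rw [← Category.assoc, hl, Category.id_comp] at hc
  have h1 := congr($hc ≫ Limits.prod.fst)
  have h2 := congr($hc ≫ Limits.prod.snd)
  simp only [Category.assoc, prod.lift_fst, prod.lift_snd, Category.comp_id] at h1 h2
  exact h1.trans h2.symm

/-- In a Noetherian local scheme, an immersion through which all infinitesimal neighbourhoods of the
closed point factor is an isomorphism. -/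
theorem isIso_of_infinitesimal {E : Scheme.{u}} {O : CommRingCat.{u}} [IsNoetherianRing O] [IsLocalRing O]
    (j : E ⟶ Spec O) [IsImmersion j]
    (h : ∀ n : ℕ, ∃ l : Spec (CommRingCat.of (O ⧸ IsLocalRing.maximalIdeal O ^ (n + 1))) ⟶ E,
      l ≫ j = Spec.map (CommRingCat.ofHom (Ideal.Quotient.mk _))) : IsIso j := by
  refine isIso_of_immersion j (fun m hm => ?_) (fun r hr => ?_)
  · obtain ⟨l, hl⟩ := h 0
    have hmm := IsLocalRing.eq_maximalIdeal hm
    haveI : Nontrivial (O ⧸ IsLocalRing.maximalIdeal O ^ (0 + 1)) :=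
      Ideal.Quotient.nontrivial_iff.mpr (by simpa using (IsLocalRing.maximalIdeal.isMaximal O).ne_top)
    let w : PrimeSpectrum (O ⧸ IsLocalRing.maximalIdeal O ^ (0 + 1)) := Classical.arbitrary _
    refine ⟨l w, ?_⟩
    rw [← Scheme.Hom.comp_apply, hl]
    refine PrimeSpectrum.ext (hm.eq_of_le (Ideal.IsPrime.ne_top inferInstance) fun z hz => ?_).symm
    show Ideal.Quotient.mk _ z ∈ w.asIdeal
    rw [Ideal.Quotient.eq_zero_iff_mem.mpr (by simpa [← hmm] using hz)]
    exact zero_mem _
  · have hmem : r ∈ ⨅ n : ℕ, IsLocalRing.maximalIdeal O ^ n := by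
      refine Submodule.mem_iInf _ |>.mpr fun n => ?_
      obtain ⟨l, hl⟩ := h n
      exact Ideal.pow_le_pow_right (Nat.le_succ n) (Ideal.Quotient.eq_zero_iff_mem.mp (hr _ _ l hl))
    rwa [Ideal.iInf_pow_eq_bot_of_isLocalRing _ (IsLocalRing.maximalIdeal.isMaximal O).ne_top,
      Ideal.mem_bot] at hmem

/-- An immersion into a locally Noetherian scheme is quasi-compact. -/
theorem quasiCompact_of_isImmersion {E X : Scheme.{u}} (j : E ⟶ X) [IsImmersion j] [IsLocallyNoetherian X] :
    QuasiCompact j := by
  rw [← Scheme.Hom.liftCoborder_ι j]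
  infer_instance

end Groth.Agent.Lib.SubEq
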