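import Groth.Agent.Lib.CentralNhd.FieldFibre
import Groth.Agent.Lib.SubEq.IsoImm
import Groth.Agent.H87.CentralEq
import Groth.Agent.H87.Factor
import Groth.Agent.H87.EqLocus
import Groth.Agent.H87.Normal
import Groth.Agent.H87.SplitHom

/-!
# Torsion points of one subgroup lie in the other, base locally of finite presentation case
-/

set_option autoImplicit false
set_option linter.style.haveILetI false

universe u

open CategoryTheory MonoidalCategory CartesianMonoidalCategory MonObj GrpObj AlgebraicGeometry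
open CategoryTheory.Limits
open Groth.Agent.Lib.RedPts Groth.Agent.Lib.Tori Groth.Agent.H87 Groth.Agent.H87.CentralEq
open Groth.Agent.Lib.CentralNhd

namespace Groth.Agent.Lib.SubEq

variable {A : CommRingCat.{u}}

set_option backward.isDefEq.respectTransparency false in
set_option backward.isDefEq.respectTransparency.types false in
theorem isFinite_DS (A : CommRingCat.{u}) (M₀ : Type) [AddCommGroup M₀] [Finite M₀] :
    IsFinite (Red.DS (Spec A) M₀).hom := by
  let inc : A ⟶ HomDS.ring (A := A) M₀ := CommRingCat.ofHom MonoidAlgebra.singleOneRingHom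
  have := Groth.Agent.Lib.MultSmooth.isIso_univPt (A := A) (M := M₀)
  let u : HomDS.test (𝟙 (Spec A)) inc ⟶ Red.DS (Spec A) M₀ := HomDS.univPt (𝟙 (Spec A)) M₀
  haveI : IsIso u := this
  haveI : IsIso u.left := inferInstanceAs (IsIso ((Over.forget _).map u))
  haveI : Module.Finite A (MonoidAlgebra A (Multiplicative M₀)) :=
    Module.Finite.equiv (MonoidAlgebra.coeffLinearEquiv A).symm
  have h1 : IsFinite (Spec.map inc) := by
    rw [IsFinite.SpecMap_iff]
    exact RingHom.finite_algebraMap.mpr ‹_›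
  refine (MorphismProperty.cancel_left_of_respectsIso @IsFinite u.left _).1 ?_
  rw [Over.w u]
  simpa only [HomDS.test, Over.mk_hom, Category.comp_id] using h1

variable [IsLocalRing A]

/-- The closed point of a local base. -/
noncomputable abbrev closedInc (A : CommRingCat.{u}) [IsLocalRing A] :
    Spec (CommRingCat.of (IsLocalRing.maximalIdeal A).ResidueField) ⟶ Spec A :=
  Spec.map (CommRingCat.ofHom (algebraMap A (IsLocalRing.maximalIdeal A).ResidueField))

theorem hom_eq_closedPoint {T : Over (Spec A)} [IsFinite T.hom] (z : T.left) (hz : IsClosed {z}) :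
    T.hom z = IsLocalRing.closedPoint A := by
  have h : IsClosed ({T.hom z} : Set (Spec A)) := by
    rw [← Set.image_singleton]
    exact T.hom.isClosedMap _ hz
  exact PrimeSpectrum.ext (IsLocalRing.eq_maximalIdeal
    ((PrimeSpectrum.isClosed_singleton_iff_isMaximal _).mp h))

set_option backward.isDefEq.respectTransparency false in
set_option backward.isDefEq.respectTransparency.types false in
/-- An action of a finite diagonalisable group, trivial on the closed fibre, fixes all points with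
values in a finite scheme over the local base. -/
theorem triv_action {M₀ : Type} [AddCommGroup M₀] [Finite M₀] {X : Over (Spec A)}
    [LocallyOfFiniteType X.hom] (a : AlgGrp.Action (Red.DS (Spec A) M₀) X)
    (h0 : ∀ (Y : Over (Spec A)) (_ : Y ⟶ Over.mk (closedInc A)) (gp : Y ⟶ Red.DS (Spec A) M₀) (x : Y ⟶ X),
      lift gp x ≫ a.act = x)
    {T : Over (Spec A)} [IsFinite T.hom] (gp : T ⟶ Red.DS (Spec A) M₀) (x : T ⟶ X) :
    lift gp x ≫ a.act = x := by
  haveI : IsAffine T.left := isAffine_of_isAffineHom T.hom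
  haveI : AddGroup.FG M₀ := inferInstance
  let B : CommRingCat.{u} := Γ(T.left, ⊤)
  let is := T.left.isoSpec
  apply Over.OverMorphism.ext
  rw [← cancel_epi is.inv]
  refine eq_of_local _ _ fun m hm => ?_
  let D : CommRingCat.{u} := CommRingCat.of (Localization.AtPrime m)
  let π : B ⟶ D := CommRingCat.ofHom (algebraMap B (Localization.AtPrime m))
  let t : Spec D ⟶ Spec A := Spec.map π ≫ is.inv ≫ T.hom
  let T' : Over (Spec A) := (Over.map (𝟙 (Spec A))).obj (Over.mk t)
  let f : T' ⟶ T := Over.homMk (Spec.map π ≫ is.inv) (by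
    show (Spec.map π ≫ is.inv) ≫ T.hom = t ≫ 𝟙 _
    rw [Category.comp_id, Category.assoc])
  suffices f ≫ lift gp x ≫ a.act = f ≫ x by
    have h := congr(($this).left)
    simp only [Over.comp_left] at h ⊢
    simpa [f] using h
  rw [comp_lift_assoc]
  let e := BaseChange.bcId (Red.DS (Spec A) M₀)
  obtain ⟨χ, hχ⟩ := Rigid.pt_surjective e (T := Over.mk t) (f ≫ gp)
  let y : Over.mk t ⟶ Red.bc (𝟙 (Spec A)) X := BC.up (𝟙 (Spec A)) (f ≫ x)
  let x₀ := y.left (IsLocalRing.closedPoint (Localization.AtPrime m))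
  have hx₀ : (Red.bc (𝟙 (Spec A)) X).hom x₀ = IsLocalRing.closedPoint A := by
    rw [← Scheme.Hom.comp_apply, Over.w y]
    show (Spec.map π ≫ is.inv ≫ T.hom) _ = _
    rw [Scheme.Hom.comp_apply, Scheme.Hom.comp_apply]
    refine hom_eq_closedPoint _ ?_
    have hcl : IsClosed ({(⟨m, hm.isPrime⟩ : PrimeSpectrum B)} : Set (PrimeSpectrum B)) :=
      (PrimeSpectrum.isClosed_singleton_iff_isMaximal _).mpr hm
    have hmm : Spec.map π (IsLocalRing.closedPoint (Localization.AtPrime m)) = (⟨m, hm.isPrime⟩ : PrimeSpectrum B) :=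
      PrimeSpectrum.ext (Localization.AtPrime.under_maximalIdeal (I := m))
    rw [hmm, ← Set.image_singleton]
    exact (Scheme.Hom.homeomorph is.inv).isClosedMap _ hcl
  obtain ⟨φ, hφ⟩ := exists_fac_fromSpecStalk x₀ y.left fun r =>
    (IsLocalRing.specializes_closedPoint r).map y.left.continuous
  have key := trivial_stalk e a (MonoidHom.id (Multiplicative M₀)) x₀ ?_ φ χ y hφ.symm
  · have h2 := congrArg (BC.down (𝟙 (Spec A))) key
    rw [MonoidHom.comp_id, Rigid.actPt, BC.down_up, BC.down_up] at h2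
    rwa [hχ] at h2
  · rw [hx₀]
    intro D' j t' ht' χ' y'
    rw [Rigid.actPt, h0 _ (Over.homMk (Spec.map (CommRingCat.ofHom j)) ?_) _ _, BC.up_down]
    show Spec.map (CommRingCat.ofHom j) ≫ closedInc A = t' ≫ 𝟙 _
    rw [Category.comp_id, ht', CommRingCat.ofHom_comp, Spec.map_comp]
    rfl

variable {S : Scheme.{u}} {G H₁ H₂ : Over S} [GrpObj G] [GrpObj H₁] [GrpObj H₂]
  (i₁ : H₁ ⟶ G) [IsMonHom i₁] (i₂ : H₂ ⟶ G) [IsMonHom i₂] [Mono i₂]
  {g : Spec A ⟶ S} {M N : Type} [AddCommGroup M] [AddCommGroup N] [AddGroup.FG M] [AddGroup.FG N]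
  (e₁ : Grp.mk (Red.bc g H₁) ≅ Grp.mk (Red.DS (Spec A) M))
  (e₂ : Grp.mk (Red.bc g H₂) ≅ Grp.mk (Red.DS (Spec A) N))

/-- The torsion points of `H₁` given by a finite quotient `M → M₀` factor through `H₂`. -/
def TorsFac {M₀ : Type} [AddCommGroup M₀] (φN : M →+ M₀) : Prop :=
  ∀ (T : Over (Spec A)) (gp : T ⟶ Red.DS (Spec A) M₀),
    ∃ y : (Over.map g).obj T ⟶ H₂,
      y ≫ i₂ = BC.down g (gp ≫ Red.DSmap (Spec A) φN ≫ (BaseChange.overIso e₁).inv) ≫ i₁

set_option maxHeartbeats 1000000 in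
include e₂ in
theorem torsFac_of_lft [LocallyOfFiniteType G.hom] (hfac : Fac i₁ i₂ (closedInc A ≫ g))
    (hcent : CentralOn i₁ (closedInc A ≫ g)) {M₀ : Type} [AddCommGroup M₀] [Finite M₀] (φN : M →+ M₀) :
    TorsFac i₁ i₂ e₁ φN := by
  let c := closedInc A
  let κ := CommRingCat.of (IsLocalRing.maximalIdeal A).ResidueField
  let E₁ := BaseChange.overIso e₁
  let E₂ := BaseChange.overIso e₂
  haveI : IsMonHom E₁.inv := inferInstanceAs (IsMonHom (BaseChange.overIso e₁.symm).hom)
  haveI : IsMonHom E₂.inv := inferInstanceAs (IsMonHom (BaseChange.overIso e₂.symm).hom)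
  haveI : IsMonHom E₂.hom := inferInstanceAs (IsMonHom (BaseChange.overIso e₂).hom)
  let D₀ := Red.DS (Spec κ) M
  obtain ⟨y₀, hy₀⟩ := hfac ((Over.map g).obj ((Over.map c).obj D₀))
    (Over.homMk D₀.hom (Category.assoc _ _ _).symm) (BC.down g (lo c (𝟙 D₀) ≫ E₁.inv))
  obtain ⟨v₀, hv₀⟩ := lo_surjective c (BC.up g y₀ ≫ E₂.hom)
  have key : ∀ {X : Over (Spec κ)} (x : X ⟶ D₀),
      BC.down g (lo c (x ≫ v₀) ≫ E₂.inv) ≫ i₂ = BC.down g (lo c x ≫ E₁.inv) ≫ i₁ := by
    intro X x
    rw [show lo c x = lo c (x ≫ 𝟙 D₀) by rw [Category.comp_id], lo_comp, lo_comp, hv₀, Category.assoc,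
      Category.assoc, Category.assoc, Iso.hom_inv_id, Category.comp_id, BC.down_comp, BC.down_comp,
      BC.down_up, Category.assoc, Category.assoc, hy₀]
  haveI : IsMonHom v₀ := HomDS.isMonHom_of_points v₀ fun X a b => by
    apply lo_injective c
    rw [lo_mul, ← cancel_mono E₂.inv, MonObj.mul_comp _ _ E₂.inv]
    apply BC.down_injective
    rw [BC.down_mul, ← cancel_mono i₂, MonObj.mul_comp _ _ i₂, key, key, key, lo_mul,
      MonObj.mul_comp _ _ E₁.inv, BC.down_mul, MonObj.mul_comp _ _ i₁]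
  have hM : SGA3x.IsMultTypeFT (Red.DS (Spec κ) M) :=
    ⟨Spec κ, 𝟙 _, inferInstance, inferInstance, fun V hV => ⟨V, hV.isCompact, by simp⟩,
      fun s' => ⟨⊤, trivial, M, inferInstance, inferInstance,
        ⟨BaseChange.bcCongr (Category.comp_id _) _ ≪≫ DS.dsBC M _⟩⟩⟩
  obtain ⟨φ, U, hU, -, hφ⟩ := HomDS.exists_local_form hM v₀ (IsLocalRing.closedPoint _)
  have hUtop : ∀ z : Spec κ, z ∈ U := fun z => by
    rwa [show z = IsLocalRing.closedPoint _ from
      @Subsingleton.elim _ (inferInstanceAs (Subsingleton (PrimeSpectrum κ))) _ _]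
  let G' := Red.bc g G
  let q := Red.DSmap (Spec A) φN
  haveI : IsMonHom q := Gm.isMonHom_DSmap _
  haveI : IsMonHom (Red.DSmap (Spec A) φ) := Gm.isMonHom_DSmap _
  let u₁ : Red.DS (Spec A) M₀ ⟶ G' := q ≫ E₁.inv ≫ (Over.pullback g).map i₁
  let u₂ : Red.DS (Spec A) M₀ ⟶ G' := q ≫ Red.DSmap (Spec A) φ ≫ E₂.inv ≫ (Over.pullback g).map i₂
  haveI : IsMonHom u₁ := inferInstance
  haveI : IsMonHom u₂ := inferInstance
  haveI : LocallyOfFiniteType G'.hom := inferInstanceAs (LocallyOfFiniteType (pullback.snd G.hom g))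
  have hred : ∀ (Y : Over (Spec A)) (p : Y ⟶ Over.mk c) (gp : Y ⟶ Red.DS (Spec A) M₀),
      gp ≫ u₁ = gp ≫ u₂ := by
    intro Y p gp
    let X : Over (Spec κ) := Over.mk p.left
    let ε : (Over.map c).obj X ≅ Y := Over.isoMk (Iso.refl _) ((Category.id_comp _).trans (Over.w p).symm)
    obtain ⟨x, hx⟩ := lo_surjective c (ε.hom ≫ gp ≫ q)
    have hxv : x ≫ v₀ = x ≫ Red.DSmap (Spec κ) φ := hφ X
      (Over.homMk (IsOpenImmersion.lift U.ι X.hom (by
        rintro z -; rw [Scheme.Opens.range_ι]; exact hUtop z)) (IsOpenImmersion.lift_fac _ _ _)) x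
    have h := key x
    rw [hxv, Groth.Agent.H87.Factor.lo_DSmap, hx] at h
    rw [← cancel_epi ε.hom]
    apply BC.down_injective
    simp only [u₁, u₂, ← Category.assoc]
    rw [BC.down_map, BC.down_map]
    simp only [Category.assoc] at h ⊢
    exact h.symm
  have hcentral : ∀ (Y : Over (Spec A)) (p : Y ⟶ Over.mk c) (gp : Y ⟶ Red.DS (Spec A) M₀) (x : Y ⟶ G'),
      lift gp x ≫ (Fibres.conjAction u₁).act = x := by
    intro Y p gp x
    rw [Fibres.conjAction_act, mul_inv_eq_iff_eq_mul]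
    suffices h' : ∀ (a : Y ⟶ Red.bc g H₁) (x' : Y ⟶ Red.bc g G),
        (a ≫ (Over.pullback g).map i₁) * x' = x' * (a ≫ (Over.pullback g).map i₁) by
      simp only [u₁, ← Category.assoc]
      exact h' _ x
    intro a x'
    apply BC.down_injective
    rw [BC.down_mul, BC.down_mul, BC.down_map]
    let pY : (Over.map g).obj Y ⟶ Over.mk (c ≫ g) := Over.homMk p.left (by
      show p.left ≫ c ≫ g = Y.hom ≫ g
      rw [← Over.w p, Category.assoc]
      rfl)
    exact (hcent _ pY _ _).symm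
  haveI := isFinite_DS A M₀
  let D := Red.DS (Spec A) M₀
  haveI : IsFinite (D ⊗ D).hom := inferInstanceAs (IsFinite (pullback.fst D.hom D.hom ≫ D.hom))
  have hcomm : ∀ {Y : Over (Spec A)} (a b : Y ⟶ D), (a ≫ u₁) * (b ≫ u₂) = (b ≫ u₂) * (a ≫ u₁) := by
    intro Y a b
    have h := congrArg (lift a b ≫ ·) (triv_action (Fibres.conjAction u₁) hcentral (fst D D) (snd D D ≫ u₂))
    simp only [comp_lift_assoc, lift_fst, lift_snd_assoc] at h
    erw [lift_fst] at h
    rw [Fibres.conjAction_act, mul_inv_eq_iff_eq_mul] at h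
    exact h
  let w : D ⟶ G' := u₁ * u₂⁻¹
  haveI : IsMonHom w := HomDS.isMonHom_of_points w fun Y a b => by
    show (a * b) ≫ (u₁ * u₂⁻¹) = (a ≫ (u₁ * u₂⁻¹)) * (b ≫ (u₁ * u₂⁻¹))
    rw [comp_mul, comp_mul, comp_mul, comp_inv, comp_inv, comp_inv, MonObj.mul_comp a b u₁,
      MonObj.mul_comp a b u₂]
    refine group_aux' (G := Y ⟶ G') (hcomm b a) ?_
    rw [← MonObj.mul_comp a b u₂, ← MonObj.mul_comp b a u₂]
    congr 1
    exact Gm.dsFn_ext fun m => by rw [Gm.dsFn_mul, Gm.dsFn_mul, _root_.mul_comm]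
  have hw : w = 1 := by
    have h := triv_action (Locus.transAction w) (fun Y p gp x => by
      rw [Locus.transAction_act]
      suffices gp ≫ w = 1 by rw [this, _root_.one_mul]
      rw [comp_mul, comp_inv, mul_inv_eq_one]
      exact hred Y p gp) (𝟙 D) 1
    rw [Locus.transAction_act, _root_.mul_one, Category.id_comp] at h
    exact h
  have hu : u₁ = u₂ := by rwa [mul_inv_eq_one] at hw
  intro T gp
  refine ⟨BC.down g (gp ≫ q ≫ Red.DSmap (Spec A) φ ≫ E₂.inv), ?_⟩
  have h := congrArg (fun v => BC.down g (gp ≫ v)) hu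
  simp only [u₁, u₂, ← Category.assoc, BC.down_map] at h
  simp only [← Category.assoc]
  exact h.symm

end Groth.Agent.Lib.SubEq
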