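import Groth.Agent.H87.CentralEq
import Groth.Agent.Lib.GrpQ.MonoClosed

/-!
# The intersection of two subgroups is a subgroup, closed over a field
-/

set_option autoImplicit false
set_option linter.style.haveILetI false

universe u

open CategoryTheory MonoidalCategory CartesianMonoidalCategory MonObj GrpObj AlgebraicGeometry
open CategoryTheory.Limits

namespace Groth.Agent.Lib.SubEq

section

variable {S : Scheme.{u}} {G H H' : Over S} [GrpObj G] [GrpObj H] [GrpObj H'] (i : H ⟶ G) [IsMonHom i]
  (i' : H' ⟶ G) [IsMonHom i'] [Mono i']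

/-- The subgroup of points of `H` whose image lies in `H'`. -/
def facPts (T : Over S) : Subgroup (T ⟶ H) where
  carrier := {x | ∃ y : T ⟶ H', y ≫ i' = x ≫ i}
  mul_mem' := by
    rintro x x' ⟨y, hy⟩ ⟨y', hy'⟩
    exact ⟨y * y', by rw [MonObj.mul_comp, MonObj.mul_comp, hy, hy']⟩
  one_mem' := ⟨1, by rw [MonObj.one_comp, MonObj.one_comp]⟩
  inv_mem' := by
    rintro x ⟨y, hy⟩
    exact ⟨y⁻¹, by rw [GrpObj.inv_comp, GrpObj.inv_comp, hy]⟩

theorem exists_proj_fac {T : Over S} (x : T ⟶ H) :
    (∃ z : T ⟶ Over.mk (pullback.fst i.left i'.left ≫ H.hom), z ≫ Groth.Agent.H87.CentralEq.proj i i' = x) ↔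
      x ∈ facPts i i' T := by
  constructor
  · rintro ⟨z, rfl⟩
    refine ⟨Over.homMk (z.left ≫ pullback.snd i.left i'.left) ?_, ?_⟩
    · rw [Category.assoc, ← Over.w i', ← pullback.condition_assoc, Over.w i]
      exact Over.w z
    · apply Over.OverMorphism.ext
      simp [Groth.Agent.H87.CentralEq.proj, pullback.condition]
  · rintro ⟨y, hy⟩
    refine ⟨Over.homMk (pullback.lift x.left y.left congr(($hy).left).symm) ?_, ?_⟩
    · show pullback.lift _ _ _ ≫ pullback.fst i.left i'.left ≫ H.hom = _
      rw [pullback.lift_fst_assoc]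
      exact Over.w x
    · exact Over.OverMorphism.ext (pullback.lift_fst _ _ _)

/-- `H ×_G H'` is a group mapping homomorphically to `H`. -/
theorem exists_grpObj :
    ∃ _ : GrpObj (Over.mk (pullback.fst i.left i'.left ≫ H.hom)),
      IsMonHom (Groth.Agent.H87.CentralEq.proj i i') := by
  let E := Over.mk (pullback.fst i.left i'.left ≫ H.hom)
  let pr : E ⟶ H := Groth.Agent.H87.CentralEq.proj i i'
  haveI : Mono i'.left := Over.mono_left_of_mono i'
  haveI : Mono pr := by
    haveI : Mono pr.left := inferInstanceAs (Mono (pullback.fst i.left i'.left))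
    exact Over.mono_of_mono_left pr
  let F : (Over S)ᵒᵖ ⥤ GrpCat.{u} :=
    { obj := fun T => GrpCat.of (facPts i i' T.unop)
      map := fun {T T'} g => GrpCat.ofHom (MonoidHom.mk'
        (fun x => ⟨g.unop ≫ x.1, x.2.elim fun y hy => ⟨g.unop ≫ y, by rw [Category.assoc, hy, Category.assoc]⟩⟩)
        (fun x y => Subtype.ext (MonObj.comp_mul g.unop x.1 y.1)))
      map_id := fun T => GrpCat.ext fun x => Subtype.ext (Category.id_comp x.1)
      map_comp := fun g g' => GrpCat.ext fun x => Subtype.ext (Category.assoc g'.unop g.unop x.1) }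
  let α : (F ⋙ forget _).RepresentableBy E :=
    { homEquiv := fun {T} =>
        { toFun := fun z => ⟨z ≫ pr, (exists_proj_fac i i' _).mp ⟨z, rfl⟩⟩
          invFun := fun x => ((exists_proj_fac i i' x.1).mpr x.2).choose
          left_inv := fun z => (cancel_mono pr).mp
            ((exists_proj_fac i i' _).mpr ((exists_proj_fac i i' (z ≫ pr)).mp ⟨z, rfl⟩)).choose_spec
          right_inv := fun x => Subtype.ext ((exists_proj_fac i i' x.1).mpr x.2).choose_spec }
      homEquiv_comp := fun g z => Subtype.ext (Category.assoc g z pr) }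
  let hg : GrpObj E := GrpObj.ofRepresentableBy E F α
  have hsym : ∀ {T : Over S} (x : F.obj (Opposite.op T)), α.homEquiv.symm x ≫ pr = x.1 := fun {T} x =>
    ((exists_proj_fac i i' x.1).mpr x.2).choose_spec
  refine ⟨hg, ⟨?_, ?_⟩⟩
  · exact (hsym (T := 𝟙_ (Over S)) 1).trans (MonObj.one_eq_one (M := H)).symm
  · refine (hsym (T := E ⊗ E) _).trans ?_
    show (fst E E ≫ pr) * (snd E E ≫ pr) = _
    rw [Hom.mul_def, lift_fst_comp_snd_comp]

end

/-- Over a field the intersection of two subgroups is closed in each. -/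
theorem isClosedImmersion_fst {k : Type u} [Field k] {G H H' : Over (Spec (CommRingCat.of k))}
    [GrpObj G] [GrpObj H] [GrpObj H'] [LocallyOfFiniteType H.hom] (i : H ⟶ G) [IsMonHom i]
    (i' : H' ⟶ G) [IsMonHom i'] [IsImmersion i'.left] [QuasiCompact (pullback.fst i.left i'.left)] :
    IsClosedImmersion (pullback.fst i.left i'.left) := by
  haveI : Mono i' := Over.mono_of_mono_left i'
  obtain ⟨hg, hhom⟩ := exists_grpObj i i'
  haveI := hhom
  haveI : IsImmersion (pullback.fst i.left i'.left) := inferInstance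
  haveI : LocallyOfFiniteType (Over.mk (pullback.fst i.left i'.left ≫ H.hom)).hom :=
    inferInstanceAs (LocallyOfFiniteType (pullback.fst i.left i'.left ≫ H.hom))
  haveI : Mono (Groth.Agent.H87.CentralEq.proj i i') := by
    haveI : Mono (Groth.Agent.H87.CentralEq.proj i i').left :=
      inferInstanceAs (Mono (pullback.fst i.left i'.left))
    exact Over.mono_of_mono_left _
  haveI : QuasiCompact (Groth.Agent.H87.CentralEq.proj i i').left :=
    inferInstanceAs (QuasiCompact (pullback.fst i.left i'.left))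
  exact Groth.Agent.Lib.GrpQ.MonoClosed.isClosedImmersion_of_mono (Groth.Agent.H87.CentralEq.proj i i')

end Groth.Agent.Lib.SubEq
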