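import Groth.Agent.Lib.CentralNhd.FieldFibre
import Groth.Agent.H87.CentralEq

/-!
# Factorisation and centrality of subgroups on base changes
-/

set_option autoImplicit false
set_option linter.style.haveILetI false

universe u

open CategoryTheory MonoidalCategory CartesianMonoidalCategory MonObj GrpObj AlgebraicGeometry
open CategoryTheory.Limits
open Groth.Agent.Lib.RedPts Groth.Agent.H87.CentralEq
open Groth.Agent.Lib.CentralNhd

namespace Groth.Agent.Lib.SubEq

variable {S : Scheme.{u}} {G H H' : Over S} (i : H ⟶ G) (i' : H' ⟶ G) {T : Scheme.{u}} {t : T ⟶ S}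

/-- The identification of a scheme over `T` pushed to `S` with a scheme over `S` mapping to `T`. -/
noncomputable def overT {Y : Over S} (p : Y ⟶ Over.mk t) : (Over.map t).obj (Over.mk p.left) ≅ Y :=
  Over.isoMk (Iso.refl _) ((Category.id_comp _).trans (Over.w p).symm)

theorem fac_comp {T' : Scheme.{u}} (c : T' ⟶ T) (h : Fac i i' t) : Fac i i' (c ≫ t) :=
  fun Y p x => h Y (p ≫ Over.homMk c) x

theorem fac_congr {t' : T ⟶ S} (e : t = t') (h : Fac i i' t) : Fac i i' t' := e ▸ h

theorem fac_of_bc_hom (ψ : Red.bc t H ⟶ Red.bc t H')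
    (h : ψ ≫ (Over.pullback t).map i' = (Over.pullback t).map i) : Fac i i' t := by
  intro Y p x
  let a : Over.mk p.left ⟶ Red.bc t H := BC.up t ((overT p).hom ≫ x)
  refine ⟨(overT p).inv ≫ BC.down t (a ≫ ψ), ?_⟩
  rw [Category.assoc, ← BC.down_map, Category.assoc, h, BC.down_map, BC.down_up, Category.assoc,
    Iso.inv_hom_id_assoc]

theorem fac_of_bc_iso (ψ : Red.bc t H ≅ Red.bc t H')
    (h : ψ.hom ≫ (Over.pullback t).map i' = (Over.pullback t).map i) : Fac i i' t ∧ Fac i' i t :=
  ⟨fac_of_bc_hom i i' ψ.hom h, fac_of_bc_hom i' i ψ.inv (by rw [← h, Iso.inv_hom_id_assoc])⟩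

section

variable [GrpObj G] [GrpObj H]

theorem centralOn_of_bc
    (hc : ∀ (X : Over T) (x : X ⟶ Red.bc t G) (h : X ⟶ Red.bc t H),
      x * (h ≫ (Over.pullback t).map i) = (h ≫ (Over.pullback t).map i) * x) : CentralOn i t := by
  intro Y p gp h
  have := congrArg (BC.down t)
    (hc (Over.mk p.left) (BC.up t ((overT p).hom ≫ gp)) (BC.up t ((overT p).hom ≫ h)))
  rw [BC.down_mul, BC.down_mul, BC.down_map, BC.down_up, BC.down_up, Category.assoc] at this
  rw [← cancel_epi (overT p).hom, comp_mul, comp_mul]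
  exact this

theorem centralOn_of_fac [GrpObj H'] (h : Fac i' i t) (hc : CentralOn i t) : CentralOn i' t := by
  intro Y p gp x
  obtain ⟨y, hy⟩ := h Y p x
  rw [← hy]
  exact hc Y p gp y

end

end Groth.Agent.Lib.SubEq
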