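import Groth.Agent.Lib.SubEq.TorsFP
import Groth.Agent.Lib.SubEq.Transfer
import Groth.Agent.Lib.SubEq.Subgroup
import Groth.Agent.Lib.CentralNhd.Residual

/-!
# A subgroup containing the torsion of a diagonalisable group contains it
-/

set_option autoImplicit false
set_option linter.style.haveILetI false

universe u

open CategoryTheory MonoidalCategory CartesianMonoidalCategory MonObj GrpObj AlgebraicGeometry
open CategoryTheory.Limits
open Groth.Agent.Lib.RedPts Groth.Agent.Lib.Tori Groth.Agent.H87 Groth.Agent.H87.CentralEq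
open Groth.Agent.Lib.CentralNhd
open Groth.Agent.H87.Locus (toG)

namespace Groth.Agent.Lib.SubEq

/-- A morphism out of a diagonalisable group factors through an immersion if its restrictions to
finite subgroups do and the inverse image of the immersion is closed. -/
theorem exists_lift_of_finite {W X : Scheme.{u}} (j : W ⟶ X) [IsImmersion j] {R : Type u} [CommRing R]
    {M : Type} [AddCommGroup M] [AddGroup.FG M]
    (y : Spec (CommRingCat.of (MonoidAlgebra R (Multiplicative M))) ⟶ X)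
    (hcl : IsClosedImmersion (pullback.fst y j))
    (ht : ∀ (N : Type) (_ : CommGroup N) (_ : Finite N) (φ : Multiplicative M →* N),
      ∃ l : Spec (CommRingCat.of (MonoidAlgebra R N)) ⟶ W,
        l ≫ j = Spec.map (CommRingCat.ofHom (MonoidAlgebra.mapDomainRingHom R φ)) ≫ y) :
    ∃ l : Spec (CommRingCat.of (MonoidAlgebra R (Multiplicative M))) ⟶ W, l ≫ j = y := by
  haveI : IsIso (pullback.fst y j) := isIso_of_closedImmersion _ fun r hr =>
    eq_zero_of_forall_mapDomain r fun N iN hN φ => by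
      obtain ⟨l, hl⟩ := ht N iN hN φ
      exact hr _ (CommRingCat.ofHom (MonoidAlgebra.mapDomainRingHom R φ)) (pullback.lift _ l hl.symm)
        (pullback.lift_fst _ _ _)
  exact ⟨inv (pullback.fst y j) ≫ pullback.snd y j, by
    rw [Category.assoc, ← pullback.condition, IsIso.inv_hom_id_assoc]⟩

variable {S : Scheme.{u}} {G H₁ H₂ : Over S} [GrpObj G] [GrpObj H₁] [GrpObj H₂]
  (i₁ : H₁ ⟶ G) [IsMonHom i₁] (i₂ : H₂ ⟶ G) [IsMonHom i₂]
  {A : CommRingCat.{u}} {g : Spec A ⟶ S} {M : Type} [AddCommGroup M]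
  (e₁ : Grp.mk (Red.bc g H₁) ≅ Grp.mk (Red.DS (Spec A) M))

/-- The point of `H₁` with values in an `A`-algebra given by a character. -/
noncomputable def charPoint {D : CommRingCat.{u}} (φ : A ⟶ D) (ch : Multiplicative M →* D) :
    (Over.map g).obj (HomDS.test (𝟙 (Spec A)) φ) ⟶ H₁ :=
  BC.down g (HomDS.evHom (𝟙 (Spec A)) M φ ch ≫ HomDS.univPt (𝟙 (Spec A)) M ≫ (BaseChange.overIso e₁).inv)

omit [GrpObj G] [GrpObj H₂] in
theorem SpecMap_charPoint {D D' : CommRingCat.{u}} (φ : A ⟶ D) (ch : Multiplicative M →* D) (ψ : D ⟶ D')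
    (φ' : A ⟶ D') (ch' : Multiplicative M →* D') (hφ : φ ≫ ψ = φ') (hch : ∀ m, ψ.hom (ch m) = ch' m) :
    Spec.map ψ ≫ (charPoint e₁ φ ch).left = (charPoint e₁ φ' ch').left := by
  subst hφ
  let h : HomDS.test (𝟙 (Spec A)) (φ ≫ ψ) ⟶ HomDS.test (𝟙 (Spec A)) φ := Over.homMk (Spec.map ψ) (by simp)
  have : h ≫ HomDS.evHom (𝟙 (Spec A)) M φ ch ≫ HomDS.univPt (𝟙 (Spec A)) M =
      HomDS.evHom (𝟙 (Spec A)) M (φ ≫ ψ) ch' ≫ HomDS.univPt (𝟙 (Spec A)) M := Gm.dsFn_ext fun m => by
    rw [Gm.dsFn_comp, HomDS.dsFn_evHom, HomDS.dsFn_evHom]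
    show (Spec.map ψ).appTop ((Scheme.ΓSpecIso D).inv _) = _
    rw [← CommRingCat.comp_apply, ← Scheme.ΓSpecIso_inv_naturality, CommRingCat.comp_apply, hch]
    rfl
  unfold charPoint
  rw [← Category.assoc (HomDS.evHom _ M (φ ≫ ψ) ch'), ← this, Category.assoc, Category.assoc, BC.down_comp]
  rfl

omit [GrpObj G] [GrpObj H₁] [GrpObj H₂] in
theorem mapTest_eq {R D : CommRingCat.{u}} (a : A ⟶ R) (i : R ⟶ D) (g : Spec A ⟶ S) :
    Spec.map i ≫ Spec.map a ≫ g = (Spec.map (a ≫ i) ≫ 𝟙 (Spec A)) ≫ g := by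
  rw [Category.comp_id, Spec.map_comp, Category.assoc]

/-- An isomorphism of schemes over `S` from an equality of structure maps. -/
noncomputable def mkIsoOfEq {X : Scheme.{u}} (m m' : X ⟶ S) (h : m = m') : Over.mk m ≅ Over.mk m' :=
  Over.isoMk (Iso.refl _) (by subst h; exact Category.id_comp _)

theorem mkIsoOfEq_left {X : Scheme.{u}} (m m' : X ⟶ S) (h : m = m') :
    (mkIsoOfEq m m' h).hom.left = 𝟙 X := rfl

/-- An algebra over `R` seen as an algebra over `A`. -/
noncomputable def mapTestIso {R D : CommRingCat.{u}} (a : A ⟶ R) (i : R ⟶ D) (g : Spec A ⟶ S) :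
    (Over.map (Spec.map a ≫ g)).obj (Over.mk (Spec.map i)) ≅
      (Over.map g).obj (HomDS.test (𝟙 (Spec A)) (a ≫ i)) :=
  mkIsoOfEq _ _ (mapTest_eq a i g)

omit [GrpObj G] [GrpObj H₁] [GrpObj H₂] in
theorem mapTestIso_left {R D : CommRingCat.{u}} (a : A ⟶ R) (i : R ⟶ D) (g : Spec A ⟶ S) :
    (mapTestIso a i g).hom.left = 𝟙 (Spec D) := mkIsoOfEq_left _ _ _

omit [GrpObj G] [GrpObj H₁] [GrpObj H₂] in
theorem map_mapTestIso {R D D' : CommRingCat.{u}} (a : A ⟶ R) (i : R ⟶ D) (i' : R ⟶ D') (π : D ⟶ D')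
    (r : Over.mk (Spec.map i') ⟶ Over.mk (Spec.map i)) (hr : r.left = Spec.map π) {Y : Over S}
    (Q : (Over.map g).obj (HomDS.test (𝟙 (Spec A)) (a ≫ i)) ⟶ Y)
    (Q' : (Over.map g).obj (HomDS.test (𝟙 (Spec A)) (a ≫ i')) ⟶ Y) (h : Spec.map π ≫ Q.left = Q'.left) :
    (Over.map (Spec.map a ≫ g)).map r ≫ (mapTestIso a i g).hom ≫ Q = (mapTestIso a i' g).hom ≫ Q' := by
  apply Over.OverMorphism.ext
  rw [Over.comp_left, Over.comp_left, Over.comp_left, mapTestIso_left, mapTestIso_left, Over.map_map_left, hr]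
  erw [Category.id_comp, Category.id_comp]
  exact h

omit [GrpObj G] [GrpObj H₂] in
theorem map_charPoint {R D D' : CommRingCat.{u}} (a : A ⟶ R) (i : R ⟶ D) (i' : R ⟶ D') (π : D ⟶ D')
    (hi : i ≫ π = i') (r : Over.mk (Spec.map i') ⟶ Over.mk (Spec.map i)) (hr : r.left = Spec.map π)
    (ch : Multiplicative M →* D) (ch' : Multiplicative M →* D') (hch : ∀ m, π.hom (ch m) = ch' m) :
    (Over.map (Spec.map a ≫ g)).map r ≫ (mapTestIso a i g).hom ≫ charPoint e₁ (a ≫ i) ch =
      (mapTestIso a i' g).hom ≫ charPoint e₁ (a ≫ i') ch' :=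
  map_mapTestIso a i i' π r hr _ _
    (SpecMap_charPoint e₁ _ _ π _ _ (by rw [Category.assoc, hi]) hch)

variable [AddGroup.FG M] [Mono i₂]

/-- Points given by characters of finite quotients lie in `H₂`. -/
theorem charPoint_fac
    (ht : ∀ (M₀ : Type) (_ : AddCommGroup M₀) (_ : Finite M₀) (φN : M →+ M₀), TorsFac i₁ i₂ e₁ φN)
    {D : CommRingCat.{u}} (φ : A ⟶ D) {N : Type} [CommGroup N] [Finite N] (c : N →* D) (q : Multiplicative M →* N) :
    ∃ y, y ≫ i₂ = charPoint e₁ φ (c.comp q) ≫ i₁ := by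
  let φN : M →+ Additive N :=
    { toFun := fun m => Additive.ofMul (q (Multiplicative.ofAdd m))
      map_zero' := by rw [ofAdd_zero, map_one]; rfl
      map_add' := fun a b => by rw [ofAdd_add, map_mul]; rfl }
  let c' : Multiplicative (Additive N) →* D :=
    { toFun := fun m => c (Additive.toMul m.toAdd)
      map_one' := map_one c
      map_mul' := fun a b => map_mul c _ _ }
  obtain ⟨y, hy⟩ := ht (Additive N) inferInstance inferInstance φN _
    (HomDS.evHom (𝟙 (Spec A)) (Additive N) φ c' ≫ HomDS.univPt (𝟙 (Spec A)) (Additive N))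
  refine ⟨y, ?_⟩
  rw [hy, charPoint, ← Category.assoc _ (Red.DSmap (Spec A) φN), ← Category.assoc (HomDS.evHom _ M φ _)]
  refine congrArg (fun z => BC.down g (z ≫ (BaseChange.overIso e₁).inv) ≫ i₁) ?_
  refine Gm.dsFn_ext fun m => ?_
  rw [HomDS.dsFn_evHom, Gm.dsFn_DSmap, HomDS.dsFn_evHom]
  rfl

/-- The point given by a character, over an intermediate base. -/
noncomputable def basePoint {R D : CommRingCat.{u}} (a : A ⟶ R) (i : R ⟶ D) (ch : Multiplicative M →* D) :
    Over.mk (Spec.map i) ⟶ Red.bc (Spec.map a ≫ g) H₁ :=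
  BC.up (Spec.map a ≫ g) ((mapTestIso a i g).hom ≫ charPoint e₁ (a ≫ i) ch)

omit [GrpObj G] [GrpObj H₂] [AddGroup.FG M] in
theorem basePoint_lift {R D D' : CommRingCat.{u}} (a : A ⟶ R) (i : R ⟶ D) (i' : R ⟶ D') (π : D ⟶ D')
    (hi : i ≫ π = i') (ch : Multiplicative M →* D) (ch' : Multiplicative M →* D')
    (hch : ∀ m, π.hom (ch m) = ch' m) (h : ∃ y, y ≫ i₂ = charPoint e₁ (a ≫ i') ch' ≫ i₁) :
    ∃ l : Spec D' ⟶ pullback ((Over.pullback (Spec.map a ≫ g)).map i₁).left
        ((Over.pullback (Spec.map a ≫ g)).map i₂).left,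
      l ≫ pullback.fst _ _ = Spec.map π ≫ (basePoint e₁ a i ch).left := by
  obtain ⟨y, hy⟩ := h
  let r : Over.mk (Spec.map i') ⟶ Over.mk (Spec.map i) := Over.homMk (Spec.map π) (by
    show Spec.map π ≫ Spec.map i = Spec.map i'
    rw [← Spec.map_comp, hi])
  have hrQ := map_charPoint e₁ a i i' π hi r rfl ch ch' hch
  have hsq : (r ≫ basePoint e₁ a i ch) ≫ (Over.pullback (Spec.map a ≫ g)).map i₁ =
      BC.up _ ((mapTestIso a i' g).hom ≫ y) ≫ (Over.pullback (Spec.map a ≫ g)).map i₂ :=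
    BC.down_injective (by
      rw [BC.down_map, BC.down_map, BC.down_comp, basePoint, BC.down_up, BC.down_up, hrQ, Category.assoc,
        Category.assoc, hy])
  exact ⟨pullback.lift (r ≫ basePoint e₁ a i ch).left (BC.up _ ((mapTestIso a i' g).hom ≫ y)).left
    congr(($hsq).left), pullback.lift_fst _ _ _⟩

omit [GrpObj G] [GrpObj H₂] [AddGroup.FG M] in
theorem charPoint_fac_of_lift {R D : CommRingCat.{u}} (a : A ⟶ R) (i : R ⟶ D) (ch : Multiplicative M →* D)
    (h : ∃ l : Spec D ⟶ pullback ((Over.pullback (Spec.map a ≫ g)).map i₁).left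
        ((Over.pullback (Spec.map a ≫ g)).map i₂).left,
      l ≫ pullback.fst _ _ = (basePoint e₁ a i ch).left) :
    ∃ y, y ≫ i₂ = charPoint e₁ (a ≫ i) ch ≫ i₁ := by
  obtain ⟨l, hl⟩ := h
  let k₁ := (Over.pullback (Spec.map a ≫ g)).map i₁
  let k₂ := (Over.pullback (Spec.map a ≫ g)).map i₂
  let w : Over.mk (Spec.map i) ⟶ Red.bc (Spec.map a ≫ g) H₂ := Over.homMk (l ≫ pullback.snd k₁.left k₂.left) (by
    rw [Category.assoc, ← Over.w k₂, ← pullback.condition_assoc, Over.w k₁, ← Category.assoc]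
    exact (congrArg (· ≫ (Red.bc (Spec.map a ≫ g) H₁).hom) hl).trans (Over.w (basePoint e₁ a i ch)))
  have hw : w ≫ k₂ = basePoint e₁ a i ch ≫ k₁ := Over.OverMorphism.ext (by
    show (l ≫ pullback.snd k₁.left k₂.left) ≫ k₂.left = (basePoint e₁ a i ch).left ≫ k₁.left
    rw [Category.assoc, ← pullback.condition, ← Category.assoc, hl])
  refine ⟨(mapTestIso a i g).inv ≫ BC.down _ w, ?_⟩
  rw [Category.assoc, ← BC.down_map, hw, BC.down_map, basePoint, BC.down_up, Category.assoc, Iso.inv_hom_id_assoc]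

omit [GrpObj G] [GrpObj H₂] [AddGroup.FG M] [Mono i₂] in
theorem isClosedImmersion_fst_bc {G : Over S} [GrpObj G] [GrpObj H₂] (i₁ : H₁ ⟶ G) [IsMonHom i₁] (i₂ : H₂ ⟶ G)
    [IsMonHom i₂] [IsImmersion i₂.left] [LocallyOfFiniteType H₁.hom] [QuasiCompact H₁.hom]
    {K : Type u} [Field K] (k : Spec (CommRingCat.of K) ⟶ S) :
    IsClosedImmersion (pullback.fst ((Over.pullback k).map i₁).left ((Over.pullback k).map i₂).left) := by
  let K₁ := Red.bc k H₁
  let k₁ : K₁ ⟶ Red.bc k G := (Over.pullback k).map i₁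
  let k₂ : Red.bc k H₂ ⟶ Red.bc k G := (Over.pullback k).map i₂
  haveI : IsMonHom k₁ := inferInstance
  haveI : IsMonHom k₂ := inferInstance
  haveI : LocallyOfFiniteType K₁.hom := inferInstanceAs (LocallyOfFiniteType (pullback.snd H₁.hom k))
  haveI : IsLocallyNoetherian K₁.left := LocallyOfFiniteType.isLocallyNoetherian K₁.hom
  haveI : IsImmersion k₂.left :=
    MorphismProperty.of_isPullback (P := @IsImmersion) (Charts.isPullback_map k i₂) ‹_›
  haveI := quasiCompact_of_isImmersion (pullback.fst k₁.left k₂.left)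
  exact isClosedImmersion_fst k₁ k₂

/-- Over a field, the group lies in `H₂`. -/
theorem charPoint_fac_field [IsImmersion i₂.left] [LocallyOfFiniteType H₁.hom] [QuasiCompact H₁.hom]
    (ht : ∀ (M₀ : Type) (_ : AddCommGroup M₀) (_ : Finite M₀) (φN : M →+ M₀), TorsFac i₁ i₂ e₁ φN)
    {K : Type u} [Field K] (a : A ⟶ CommRingCat.of K) :
    ∃ y, y ≫ i₂ = charPoint e₁ (a ≫ CommRingCat.ofHom MonoidAlgebra.singleOneRingHom)
      (MonoidAlgebra.of K (Multiplicative M)) ≫ i₁ := by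
  have := isClosedImmersion_fst_bc i₁ i₂ (Spec.map a ≫ g)
  haveI : IsImmersion ((Over.pullback (Spec.map a ≫ g)).map i₂).left :=
    MorphismProperty.of_isPullback (P := @IsImmersion) (Charts.isPullback_map (Spec.map a ≫ g) i₂) ‹_›
  refine charPoint_fac_of_lift i₁ i₂ e₁ a _ _ (exists_lift_of_finite _ (R := K) _ inferInstance
    fun N iN hN q => basePoint_lift i₁ i₂ e₁ a _ (CommRingCat.ofHom MonoidAlgebra.singleOneRingHom) _ ?_ _
      ((MonoidAlgebra.of K N).comp q) ?_ (charPoint_fac i₁ i₂ e₁ ht _ _ q))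
  · refine CommRingCat.hom_ext (RingHom.ext fun r => ?_)
    show MonoidAlgebra.mapDomainRingHom K q (MonoidAlgebra.single 1 r) = MonoidAlgebra.single 1 r
    simp
  · intro m
    show MonoidAlgebra.mapDomainRingHom K q (MonoidAlgebra.single m 1) = MonoidAlgebra.single (q m) 1
    simp

set_option maxHeartbeats 800000 in
/-- The group lies in `H₂` if its torsion does. -/
theorem fac_of_torsFac [IsImmersion i₂.left] [LocallyOfFiniteType H₁.hom] [QuasiCompact H₁.hom]
    (ht : ∀ (M₀ : Type) (_ : AddCommGroup M₀) (_ : Finite M₀) (φN : M →+ M₀), TorsFac i₁ i₂ e₁ φN) :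
    Fac i₁ i₂ g := by
  let B : CommRingCat.{u} := HomDS.ring (A := A) M
  let inc : A ⟶ B := CommRingCat.ofHom MonoidAlgebra.singleOneRingHom
  let Q := charPoint e₁ inc (MonoidAlgebra.of A (Multiplicative M))
  let y := (Q ≫ i₁).left
  have hcl : IsClosedImmersion (pullback.fst y i₂.left) := by
    refine isClosedImmersion_of_closedPoints _ fun m hm => ?_
    haveI := hm
    letI : Field (B ⧸ m.asIdeal) := Ideal.Quotient.field m.asIdeal
    let L := B ⧸ m.asIdeal
    let mk : B ⟶ CommRingCat.of L := CommRingCat.ofHom (Ideal.Quotient.mk m.asIdeal)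
    let a : A ⟶ CommRingCat.of L := inc ≫ mk
    obtain ⟨yL, hyL⟩ := charPoint_fac_field i₁ i₂ e₁ ht a
    let χ : Multiplicative M →* L :=
      (Ideal.Quotient.mk m.asIdeal).toMonoidHom.comp (MonoidAlgebra.of A (Multiplicative M))
    let ev : CommRingCat.of (MonoidAlgebra L (Multiplicative M)) ⟶ CommRingCat.of L :=
      Locus.ev (M := M) (𝟙 (CommRingCat.of L)) χ
    have h1 : Spec.map ev ≫ (charPoint e₁ (a ≫ CommRingCat.ofHom MonoidAlgebra.singleOneRingHom)
        (MonoidAlgebra.of L (Multiplicative M))).left = (charPoint e₁ a χ).left :=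
      SpecMap_charPoint e₁ _ _ ev _ _ (by
        rw [Category.assoc]
        exact (congrArg (a ≫ ·) (Locus.inc_ev _ _)).trans (Category.comp_id _))
        (fun x => Locus.ev_single _ _ _)
    have h2 : Spec.map mk ≫ Q.left = (charPoint e₁ a χ).left :=
      SpecMap_charPoint e₁ _ _ mk _ _ rfl (fun x => rfl)
    have hsq : Spec.map mk ≫ y = (Spec.map ev ≫ yL.left) ≫ i₂.left := by
      show Spec.map mk ≫ Q.left ≫ i₁.left = _
      rw [← Category.assoc]
      refine (congrArg (· ≫ i₁.left) (h2.trans h1.symm)).trans ?_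
      refine (Category.assoc _ _ _).trans (Eq.trans ?_ (Category.assoc _ _ _).symm)
      exact congrArg (fun z => Spec.map ev ≫ z) congr(($hyL).left).symm
    haveI : Nonempty (Spec (CommRingCat.of L)) := inferInstanceAs (Nonempty (PrimeSpectrum L))
    let pt : Spec (CommRingCat.of L) := Classical.arbitrary _
    refine ⟨pullback.lift _ _ hsq pt, ?_⟩
    rw [← Scheme.Hom.comp_apply, pullback.lift_fst]
    refine PrimeSpectrum.ext (hm.eq_of_le (Ideal.IsPrime.ne_top (PrimeSpectrum.isPrime _)) fun z hz => ?_).symm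
    show Ideal.Quotient.mk m.asIdeal z ∈ PrimeSpectrum.asIdeal (R := L) pt
    rw [Ideal.Quotient.eq_zero_iff_mem.mpr hz]
    exact zero_mem _
  obtain ⟨l, hl⟩ := exists_lift_of_finite i₂.left (R := A) y hcl fun N iN hN q => by
    obtain ⟨z, hz⟩ := charPoint_fac i₁ i₂ e₁ ht (CommRingCat.ofHom MonoidAlgebra.singleOneRingHom)
      (MonoidAlgebra.of A N) q
    refine ⟨z.left, ?_⟩
    have hh := SpecMap_charPoint e₁ inc (MonoidAlgebra.of A (Multiplicative M))
      (CommRingCat.ofHom (MonoidAlgebra.mapDomainRingHom A q)) (CommRingCat.ofHom MonoidAlgebra.singleOneRingHom)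
      ((MonoidAlgebra.of A N).comp q) (by
        refine CommRingCat.hom_ext (RingHom.ext fun r => ?_)
        show MonoidAlgebra.mapDomainRingHom A q (MonoidAlgebra.single 1 r) = MonoidAlgebra.single 1 r
        simp) (fun m => by
        show MonoidAlgebra.mapDomainRingHom A q (MonoidAlgebra.single m 1) = MonoidAlgebra.single (q m) 1
        simp)
    show z.left ≫ i₂.left = _ ≫ Q.left ≫ i₁.left
    rw [← Category.assoc (Spec.map _), hh, ← Over.comp_left, hz]
    rfl
  let T := HomDS.test (𝟙 (Spec A)) inc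
  let w : (Over.map g).obj T ⟶ H₂ := Over.homMk l (by
    rw [← Over.w i₂, ← Category.assoc, hl]
    exact Over.w (Q ≫ i₁))
  have hw : w ≫ i₂ = Q ≫ i₁ := Over.OverMorphism.ext hl
  let u : T ⟶ Red.DS (Spec A) M := HomDS.univPt (𝟙 (Spec A)) M
  haveI : IsIso u := Groth.Agent.Lib.MultSmooth.isIso_univPt
  have hQ : Q = BC.down g (u ≫ (BaseChange.overIso e₁).inv) := by
    refine congrArg (BC.down g) ?_
    rw [← Category.assoc]
    refine congrArg (· ≫ (BaseChange.overIso e₁).inv) (Gm.dsFn_ext fun m => ?_)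
    rw [HomDS.dsFn_evHom]
    show _ = Gm.dsFn (HomDS.univPt (𝟙 (Spec A)) M) m
    rw [HomDS.univPt, Gm.dsFn_dsPt]
    rfl
  intro Y p x
  let r : Over.mk p.left ⟶ T := (BC.up g ((overT p).hom ≫ x) ≫ (BaseChange.overIso e₁).hom) ≫ inv u
  refine ⟨(overT p).inv ≫ (Over.map g).map r ≫ w, ?_⟩
  rw [Category.assoc, Category.assoc, hw, hQ, ← Category.assoc ((Over.map g).map r), ← BC.down_comp]
  simp only [r, Category.assoc, IsIso.inv_hom_id_assoc, Iso.hom_inv_id, Category.comp_id, BC.down_up,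
    Iso.inv_hom_id_assoc]

end Groth.Agent.Lib.SubEq
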