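import Groth.Agent.Lib.SubEq.IsoImm
import Groth.Agent.Lib.SubEq.Transfer
import Groth.Agent.H87.Charts
import Groth.Agent.S2575
import Groth.Agent.S3402
import Groth.Agent.S3403
import Groth.Agent.Lib.CentralNhd.LocalAct
import Mathlib.AlgebraicGeometry.Morphisms.FinitePresentation

/-!
# Factorisation of one subgroup through another spreads from a local ring
-/

set_option autoImplicit false
set_option linter.style.haveILetI false

universe u

open CategoryTheory MonoidalCategory CartesianMonoidalCategory MonObj GrpObj AlgebraicGeometry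
open CategoryTheory.Limits
open Groth.Agent.Lib.RedPts Groth.Agent.H87 Groth.Agent.H87.CentralEq

namespace Groth.Agent.Lib.SubEq

set_option backward.isDefEq.respectTransparency false in
set_option backward.isDefEq.respectTransparency.types false in
/-- Factoring through a closed immersion of finite presentation spreads from a local ring of the base. -/
theorem exists_open_lift {R B : CommRingCat.{u}} (ρ : R ⟶ B) {E : Scheme.{u}} (j : E ⟶ Spec B)
    [IsClosedImmersion j] [LocallyOfFinitePresentation j] (p : PrimeSpectrum R)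
    (h : ∀ (C : CommRingCat.{u}) (f : Spec C ⟶ Spec B),
      (∀ r, (f ≫ Spec.map ρ) r ⤳ (p : Spec R)) → ∃ l, l ≫ j = f) :
    ∃ O : (Spec R).Opens, (p : Spec R) ∈ O ∧
      ∀ (Y : Scheme.{u}) (y : Y ⟶ Spec B), (∀ z, (y ≫ Spec.map ρ) z ∈ O) → ∃ l, l ≫ j = y := by
  haveI : IsAffine E := isAffine_of_isAffineHom j
  let C : CommRingCat.{u} := Γ(E, ⊤)
  let φ : B ⟶ C := (Scheme.ΓSpecIso B).inv ≫ j.appTop
  have hj : E.isoSpec.hom ≫ Spec.map φ = j := by
    rw [Scheme.isoSpec_hom, Spec.map_comp, ← Scheme.toSpecΓ_naturality_assoc,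
      toSpecΓ_SpecMap_ΓSpecIso_inv, Category.comp_id]
  have hsurj : Function.Surjective φ.hom :=
    (IsClosedImmersion.isAffine_surjective_of_isAffine (f := j)).2.comp
      (ConcreteCategory.bijective_of_isIso (Scheme.ΓSpecIso B).inv).2
  have hfp : φ.hom.FinitePresentation := by
    have h1 : LocallyOfFinitePresentation (Spec.map φ) := by
      rw [← MorphismProperty.cancel_left_of_respectsIso @LocallyOfFinitePresentation E.isoSpec.hom, hj]
      infer_instance
    exact (LocallyOfFinitePresentation.SpecMap_iff φ).mp h1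
  have hfg : (RingHom.ker φ.hom).FG := by
    letI := φ.hom.toAlgebra
    haveI : Algebra.FinitePresentation B C := hfp
    exact Algebra.FinitePresentation.ker_fG_of_surjective (Algebra.ofId B C) hsurj
  let Sb : Submonoid B := p.asIdeal.primeCompl.map ρ.hom
  let f : Spec (CommRingCat.of (Localization Sb)) ⟶ Spec B :=
    Spec.map (CommRingCat.ofHom (algebraMap B (Localization Sb)))
  obtain ⟨l, hl⟩ := h _ f fun r => by
    refine (PrimeSpectrum.le_iff_specializes _ _).mp fun x hx => ?_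
    by_contra hxp
    have hx' : algebraMap B (Localization Sb) (ρ.hom x) ∈ PrimeSpectrum.asIdeal (R := Localization Sb) r := hx
    exact (PrimeSpectrum.isPrime (R := Localization Sb) r).ne_top (Ideal.eq_top_of_isUnit_mem _ hx'
      (IsLocalization.map_units (M := Sb) (Localization Sb) ⟨ρ.hom x, x, hxp, rfl⟩))
  have hker : ∀ z ∈ RingHom.ker φ.hom, ∃ b : R, b ∉ p.asIdeal ∧ ρ.hom b * z = 0 := by
    intro z hz
    have h0 : f.appTop ((Scheme.ΓSpecIso B).inv z) = 0 := by
      rw [← hl, Scheme.Hom.comp_appTop, CommRingCat.comp_apply]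
      rw [show j.appTop ((Scheme.ΓSpecIso B).inv z) = 0 from hz, map_zero]
    rw [← CommRingCat.comp_apply, ← Scheme.ΓSpecIso_inv_naturality, CommRingCat.comp_apply] at h0
    have h1 := (map_eq_zero_iff _ (ConcreteCategory.bijective_of_isIso (Scheme.ΓSpecIso _).inv).1).mp h0
    obtain ⟨⟨_, b, hb, rfl⟩, hbz⟩ := (IsLocalization.map_eq_zero_iff Sb (Localization Sb) z).mp h1
    exact ⟨b, hb, hbz⟩
  obtain ⟨T, hT⟩ := hfg
  choose b hb hbz using fun z : T => hker z.1 (hT ▸ Ideal.subset_span z.2)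
  let a : R := ∏ z ∈ T.attach, b z
  refine ⟨PrimeSpectrum.basicOpen a, fun ha => ?_, ?_⟩
  · obtain ⟨z, -, hz⟩ := (p.isPrime.prod_mem_iff).mp ha
    exact hb z hz
  intro Y y hy
  let Ba := Localization.Away (ρ.hom a)
  let i₀ : Spec (CommRingCat.of Ba) ⟶ Spec B := Spec.map (CommRingCat.ofHom (algebraMap B Ba))
  haveI : IsOpenImmersion i₀ := IsOpenImmersion.of_isLocalization (ρ.hom a)
  have hkill : RingHom.ker φ.hom ≤ RingHom.ker (algebraMap B Ba) := by
    rw [← hT, Ideal.span_le]
    intro z hz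
    refine (IsLocalization.map_eq_zero_iff (Submonoid.powers (ρ.hom a)) Ba z).mpr
      ⟨⟨ρ.hom a, Submonoid.mem_powers _⟩, ?_⟩
    show ρ.hom a * z = 0
    obtain ⟨c, hc⟩ := Finset.dvd_prod_of_mem b (Finset.mem_attach T ⟨z, hz⟩)
    rw [show a = b ⟨z, hz⟩ * c from hc, map_mul, _root_.mul_comm (ρ.hom (b ⟨z, hz⟩)), _root_.mul_assoc, hbz ⟨z, hz⟩, mul_zero]
  let ψ : C →+* Ba := RingHom.liftOfSurjective φ.hom hsurj ⟨algebraMap B Ba, hkill⟩
  have hψ : φ ≫ CommRingCat.ofHom ψ = CommRingCat.ofHom (algebraMap B Ba) :=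
    CommRingCat.hom_ext (RingHom.liftOfSurjective_comp φ.hom hsurj ⟨algebraMap B Ba, hkill⟩)
  have hr : Set.range y ⊆ Set.range i₀ := by
    rintro _ ⟨z, rfl⟩
    show (y z : PrimeSpectrum B) ∈ Set.range (PrimeSpectrum.comap (algebraMap B Ba))
    rw [PrimeSpectrum.localization_away_comap_range Ba (ρ.hom a)]
    exact hy z
  refine ⟨IsOpenImmersion.lift i₀ y hr ≫ Spec.map (CommRingCat.ofHom ψ) ≫ E.isoSpec.inv, ?_⟩
  have h1 : E.isoSpec.inv ≫ j = Spec.map φ := by
    conv_lhs => rw [← hj]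
    rw [Iso.inv_hom_id_assoc]
  rw [Category.assoc, Category.assoc, h1, ← Spec.map_comp, hψ]
  exact IsOpenImmersion.lift_fac i₀ y hr

variable {S : Scheme.{u}} {G H₁ H₂ : Over S} (i₁ : H₁ ⟶ G) (i₂ : H₂ ⟶ G) [Mono i₂]

theorem fib_residue_of_fac {s t : S} (hts : t ⤳ s) (h : Fac i₁ i₂ (S.fromSpecStalk s)) :
    Charts.Fib (MorphismProperty.isomorphisms Scheme) (S.fromSpecResidueField t) (proj i₁ i₂) := by
  refine (fib_iso_iff i₁ i₂ _).mpr ?_
  refine fac_congr i₁ i₂ ?_ (fac_comp i₁ i₂ (Spec.map (S.residue t) ≫ Spec.map (S.presheaf.stalkSpecializes hts)) h)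
  rw [Category.assoc, Scheme.SpecMap_stalkSpecializes_fromSpecStalk, Scheme.fromSpecResidueField]

/-- If `i₁` factors through `i₂` over the local ring at `s`, it does so near `s`. -/
theorem exists_nhd_fac [IsImmersion i₂.left] [IsAffineHom H₁.hom] [LocallyOfFinitePresentation H₁.hom]
    (hj : LocallyOfFinitePresentation (pullback.fst i₁.left i₂.left))
    (hjq : QuasiCompact (pullback.fst i₁.left i₂.left)) {s : S} (h : Fac i₁ i₂ (S.fromSpecStalk s)) :
    ∃ U : S.Opens, s ∈ U ∧ Fac i₁ i₂ U.ι := by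
  let P := MorphismProperty.isomorphisms Scheme.{u}
  let j := pullback.fst i₁.left i₂.left
  let pr := proj i₁ i₂
  haveI : LocallyOfFinitePresentation j := hj
  haveI : QuasiCompact j := hjq
  haveI : Mono i₂.left := Over.mono_left_of_mono i₂
  have hC : Topology.IsLocallyConstructible {t : S | Charts.Fib P (S.fromSpecResidueField t) pr} := by
    convert Groth.Agent.S2575.result j H₁.hom using 1
    ext t
    refine Iff.of_eq (congrArg IsIso ?_)
    refine pullback.hom_ext ?_ ?_
    · exact (pullback.lift_fst _ _ _).trans (pullback.lift_fst (pullback.fst (j ≫ H₁.hom) _ ≫ j) _ _).symm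
    · exact (pullback.lift_snd _ _ _).trans (pullback.lift_snd (pullback.fst (j ≫ H₁.hom) _ ≫ j) _ _).symm
  have hint := (Groth.Agent.S3403.result S _ ((Groth.Agent.S3402.result S _).mp hC).1 s).mpr
    fun t ht => fib_residue_of_fac i₁ i₂ ht h
  obtain ⟨V, hV, hsV, hVU⟩ := exists_isAffineOpen_mem_and_subset (X := S) (x := s)
    (U := ⟨interior {t : S | Charts.Fib P (S.fromSpecResidueField t) pr}, isOpen_interior⟩) hint
  let R : CommRingCat.{u} := Γ(S, V)
  let c : Spec R ⟶ S := hV.fromSpec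
  let K₁ := Red.bc c H₁
  let prV := (Over.pullback c).map pr
  haveI : IsAffineHom K₁.hom := inferInstanceAs (IsAffineHom (pullback.snd H₁.hom c))
  haveI : IsAffine K₁.left := isAffine_of_isAffineHom K₁.hom
  haveI : IsImmersion pr.left := inferInstanceAs (IsImmersion (pullback.fst i₁.left i₂.left))
  haveI : IsImmersion prV.left := MorphismProperty.of_isPullback (P := @IsImmersion) (Charts.isPullback_map c pr) ‹_›
  haveI : LocallyOfFinitePresentation prV.left :=
    MorphismProperty.of_isPullback (P := @LocallyOfFinitePresentation) (Charts.isPullback_map c pr) hj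
  have hsurj : ∀ x : K₁.left, x ∈ Set.range prV.left := by
    intro x
    let y := K₁.hom x
    let k := (Spec R).fromSpecResidueField y
    have hy : Charts.Fib P (S.fromSpecResidueField (c y)) pr :=
      interior_subset (s := {t : S | Charts.Fib P (S.fromSpecResidueField t) pr}) (hVU (hV.range_fromSpec.le ⟨y, rfl⟩))
    have hk : IsIso ((Over.pullback k).map prV).left :=
      (Charts.fib_comp P k c pr).mp ((Charts.fib_residue_iff P c y pr).mpr hy)
    obtain ⟨z, hz⟩ : x ∈ Set.range (pullback.fst K₁.hom k) := by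
      rw [Scheme.Pullback.range_fst]
      exact ⟨IsLocalRing.closedPoint _, (Spec R).fromSpecResidueField_apply y _⟩
    obtain ⟨w, rfl⟩ := ((Over.pullback k).map prV).left.homeomorph.surjective z
    exact ⟨pullback.fst _ k w, hz ▸ congr($((Charts.isPullback_map k prV).w) w)⟩
  let B : CommRingCat.{u} := Γ(K₁.left, ⊤)
  let is := K₁.left.isoSpec
  let j' := prV.left ≫ is.hom
  haveI : IsImmersion j' := inferInstance
  haveI : LocallyOfFinitePresentation j' := inferInstance
  haveI : IsClosedImmersion j' := isClosedImmersion_of_closedPoints j' fun m _ => by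
    obtain ⟨w, hw⟩ := hsurj (is.inv (m : Spec B))
    refine ⟨w, ?_⟩
    show is.hom (prV.left w) = m
    rw [hw]
    exact congr($(is.inv_hom_id) (m : Spec B))
  obtain ⟨ρ, hρ⟩ := Spec.map_surjective (is.inv ≫ K₁.hom)
  let p : PrimeSpectrum R := hV.primeIdealOf ⟨s, hsV⟩
  have hp : c p = s := hV.fromSpec_primeIdealOf ⟨s, hsV⟩
  have key : ∀ (Y : Scheme.{u}) (f : Y ⟶ Spec B),
      (∃ l, l ≫ pullback.fst i₁.left i₂.left = f ≫ is.inv ≫ pullback.fst H₁.hom c) → ∃ l, l ≫ j' = f := by
    rintro Y f ⟨l, hl⟩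
    have hsq : f ≫ is.inv ≫ pullback.fst H₁.hom c = l ≫ pr.left := hl.symm
    refine ⟨(Charts.isPullback_map c pr).lift l (f ≫ is.inv) (by rw [Category.assoc]; exact hl), ?_⟩
    rw [← Category.assoc, (Charts.isPullback_map c pr).lift_snd, Category.assoc, is.inv_hom_id, Category.comp_id]
  obtain ⟨O, hpO, hO⟩ := exists_open_lift ρ j' p fun C f hf => by
    refine key _ f ?_
    let x : Spec C ⟶ H₁.left := f ≫ is.inv ≫ pullback.fst H₁.hom c
    have hx : x ≫ H₁.hom = (f ≫ Spec.map ρ) ≫ c := by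
      simp only [x, Category.assoc, hρ]
      rw [pullback.condition]
      rfl
    obtain ⟨φ, hφ⟩ := Groth.Agent.Lib.CentralNhd.exists_fac_fromSpecStalk s ((f ≫ Spec.map ρ) ≫ c) fun r => by
      rw [Scheme.Hom.comp_apply, ← hp]
      exact (hf r).map c.continuous
    obtain ⟨y, hy⟩ := h (Over.mk (x ≫ H₁.hom)) (Over.homMk (Spec.map φ) (by
      show Spec.map φ ≫ S.fromSpecStalk s = x ≫ H₁.hom
      rw [hφ, hx])) (Over.homMk x)
    exact ⟨pullback.lift x y.left congr(($hy).left).symm, pullback.lift_fst _ _ _⟩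
  haveI : IsOpenImmersion c := hV.isOpenImmersion_fromSpec
  refine ⟨c ''ᵁ O, ⟨p, hpO, hp⟩, fun Y q x => ?_⟩
  have hr : Set.range (q.left ≫ (c ''ᵁ O).ι) ⊆ Set.range c := by
    rintro _ ⟨z, rfl⟩
    obtain ⟨w, -, hw⟩ := (q.left z).2
    exact ⟨w, hw⟩
  let q' : Y.left ⟶ Spec R := IsOpenImmersion.lift c (q.left ≫ (c ''ᵁ O).ι) hr
  have hq' : q' ≫ c = x.left ≫ H₁.hom := by
    rw [IsOpenImmersion.lift_fac, Over.w x]
    exact Over.w q
  let z : Y.left ⟶ K₁.left := pullback.lift x.left q' hq'.symm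
  obtain ⟨l, hl⟩ := hO Y.left (z ≫ is.hom) fun w => by
    rw [hρ, Category.assoc, Iso.hom_inv_id_assoc]
    show ((pullback.lift x.left q' hq'.symm ≫ pullback.snd H₁.hom c) : Y.left ⟶ Spec R) w ∈ O
    rw [pullback.lift_snd]
    obtain ⟨v, hv, hvw⟩ := (q.left w).2
    have hw : c (q' w) = c v := by
      rw [← Scheme.Hom.comp_apply, IsOpenImmersion.lift_fac]
      exact hvw.symm
    rwa [c.isOpenEmbedding.injective hw]
  have hlz : l ≫ prV.left = z := (cancel_mono is.hom).mp (by rw [Category.assoc]; exact hl)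
  let m := l ≫ pullback.fst (Over.mk (pullback.fst i₁.left i₂.left ≫ H₁.hom)).hom c
  have hm : m ≫ pullback.fst i₁.left i₂.left = x.left := by
    show (l ≫ _) ≫ pr.left = x.left
    rw [Category.assoc, (Charts.isPullback_map c pr).w, ← Category.assoc, hlz]
    exact pullback.lift_fst _ _ _
  refine ⟨Over.homMk (m ≫ pullback.snd i₁.left i₂.left) ?_, ?_⟩
  · rw [Category.assoc, ← Over.w i₂, ← pullback.condition_assoc, Over.w i₁, ← Category.assoc, hm, Over.w x]
  · apply Over.OverMorphism.ext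
    show (m ≫ pullback.snd i₁.left i₂.left) ≫ i₂.left = x.left ≫ i₁.left
    rw [Category.assoc, ← pullback.condition, ← Category.assoc, hm]

end Groth.Agent.Lib.SubEq
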