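import Groth.Agent.Lib.SubEq.TorsNoeth
import Groth.Agent.Lib.SubEq.Core
import Groth.Agent.Lib.SubEq.Spread
import Groth.Agent.Lib.CentralNhd.Nhd
import Groth.Agent.Lib.Lim.OpenImm

/-!
# Central subgroups of multiplicative type equal at a point are equal near it
-/

set_option autoImplicit false
set_option linter.style.haveILetI false

universe u

open CategoryTheory MonoidalCategory CartesianMonoidalCategory MonObj GrpObj AlgebraicGeometry
open CategoryTheory.Limits
open Groth.Agent.Lib.RedPts Groth.Agent.Lib.Tori Groth.Agent.H87 Groth.Agent.H87.CentralEq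
open Groth.Agent.Lib.CentralNhd

namespace Groth.Agent.Lib.SubEq

variable {S : Scheme.{u}} {G H₁ H₂ : Over S} [GrpObj G] [GrpObj H₁] [GrpObj H₂]
  (i₁ : H₁ ⟶ G) [IsMonHom i₁] (i₂ : H₂ ⟶ G) [IsMonHom i₂] [IsImmersion i₂.left] [Mono i₂]

set_option maxHeartbeats 800000 in
/-- Subgroups equal and central at a point: one lies in the other over the local ring. -/
theorem fac_stalk (hG : IsLocallyNoetherian S ∨ LocallyOfFiniteType G.hom)
    (h₁ : SGA3x.IsMultTypeFT H₁) (h₂ : SGA3x.IsMultTypeFT H₂) (s : S)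
    (hfac : Fac i₁ i₂ (S.fromSpecResidueField s)) (hcent : CentralOn i₁ (S.fromSpecResidueField s)) :
    Fac i₁ i₂ (S.fromSpecStalk s) := by
  haveI := MT.isAffineHom h₁
  haveI := MT.locallyOfFinitePresentation h₁
  obtain ⟨S', f, hf, hs, -, hloc⟩ := Charts.exists_common_charts h₁ h₂
  haveI := hf
  obtain ⟨s', rfl⟩ := hs.surj s
  obtain ⟨U, hU, M, N, iM, iN, hM, hN, ⟨e⟩, ⟨e'⟩⟩ := hloc s'
  let A := S'.presheaf.stalk s'
  let k : Spec A ⟶ (U : Scheme.{u}) := IsOpenImmersion.lift U.ι (S'.fromSpecStalk s') (by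
    rw [Scheme.Opens.range_ι, Scheme.range_fromSpecStalk]
    intro z hz
    exact hz.mem_open U.2 hU)
  let g : Spec A ⟶ S := S'.fromSpecStalk s' ≫ f
  have hk : k ≫ U.ι ≫ f = g := by rw [← Category.assoc, IsOpenImmersion.lift_fac]
  let e₁ := BaseChange.bcCongr hk.symm H₁ ≪≫ Charts.resChart e k
  let e₂ := BaseChange.bcCongr hk.symm H₂ ≪≫ Charts.resChart e' k
  have hg : g (IsLocalRing.closedPoint A) = f s' := by
    show f (S'.fromSpecStalk s' (IsLocalRing.closedPoint A)) = f s'
    exact congrArg f Scheme.fromSpecStalk_closedPoint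
  have htors : ∀ (M₀ : Type) (_ : AddCommGroup M₀) (_ : Finite M₀) (φN : M →+ M₀), TorsFac i₁ i₂ e₁ φN := by
    intro M₀ iM₀ hM₀ φN
    rcases hG with hG | hG
    · exact torsFac_of_noetherian i₁ i₂ e₁ h₁ h₂ (hg.symm ▸ hfac) (hg.symm ▸ hcent) φN
    · let K := (IsLocalRing.maximalIdeal A).ResidueField
      let kk : Spec (CommRingCat.of K) ⟶ S := closedInc A ≫ g
      have hpt : kk (IsLocalRing.closedPoint K) = f s' := by
        refine Eq.trans ?_ hg
        refine congrArg g (PrimeSpectrum.ext ?_)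
        exact (congrArg (Ideal.comap (algebraMap A K))
          (IsLocalRing.isField_iff_maximalIdeal_eq.mp (Field.toIsField _))).trans
          (Ideal.ker_algebraMap_residueField _)
      have hq := Scheme.descResidueField_stalkClosedPointTo_fromSpecResidueField K S kk
      refine torsFac_of_lft i₁ i₂ e₁ e₂ (fac_congr i₁ i₂ hq (fac_comp i₁ i₂ _ (hpt.symm ▸ hfac)))
        (centralOn_congr i₁ hq (centralOn_comp i₁ _ (hpt.symm ▸ hcent))) φN
  have hA : Fac i₁ i₂ g := fac_of_torsFac i₁ i₂ e₁ htors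
  let c : Spec A ⟶ Spec (S.presheaf.stalk (f s')) := Spec.map (f.stalkMap s')
  haveI : Flat c := by
    rw [HasRingHomProperty.Spec_iff (P := @Flat)]
    exact Flat.stalkMap f s'
  haveI : Surjective c := by
    algebraize [(f.stalkMap s').hom]
    haveI : Module.FaithfullyFlat (S.presheaf.stalk (f s')) A :=
      @Module.FaithfullyFlat.of_flat_of_isLocalHom _ _ _ _ _ _ _ (Flat.stalkMap f s') (f.toLRSHom.prop s')
    exact ⟨PrimeSpectrum.comap_surjective_of_faithfullyFlat⟩
  refine (fib_iso_iff i₁ i₂ _).mp (Charts.fib_descend (MorphismProperty.isomorphisms Scheme) c ?_)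
  exact Charts.fib_congr _ (Scheme.SpecMap_stalkMap_fromSpecStalk f).symm _ ((fib_iso_iff i₁ i₂ _).mpr hA)

/-- One subgroup lies in the other near the point. -/
theorem exists_nhd_fac_of_point
    (hG : IsLocallyNoetherian S ∨ (LocallyOfFinitePresentation G.hom ∧ QuasiCompact G.hom ∧ QuasiSeparated G.hom))
    (h₁ : SGA3x.IsMultTypeFT H₁) (h₂ : SGA3x.IsMultTypeFT H₂) (s : S)
    (hfac : Fac i₁ i₂ (S.fromSpecResidueField s)) (hcent : CentralOn i₁ (S.fromSpecResidueField s)) :
    ∃ U : S.Opens, s ∈ U ∧ Fac i₁ i₂ U.ι := by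
  haveI := MT.isAffineHom h₁
  haveI := MT.isAffineHom h₂
  haveI := MT.locallyOfFinitePresentation h₁
  haveI := MT.locallyOfFinitePresentation h₂
  have hst := fac_stalk i₁ i₂ (hG.imp id fun h => by have := h.1; infer_instance) h₁ h₂ s hfac hcent
  rcases hG with hG | ⟨hG, hG', hG''⟩
  · haveI : IsLocallyNoetherian H₁.left := LocallyOfFiniteType.isLocallyNoetherian H₁.hom
    exact exists_nhd_fac i₁ i₂ inferInstance (quasiCompact_of_isImmersion _) hst
  · haveI : LocallyOfFinitePresentation (i₂.left ≫ G.hom) := by rw [Over.w i₂]; infer_instance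
    haveI : LocallyOfFinitePresentation i₂.left := Groth.Agent.Lib.Lim.OpenImm.lfp_of_comp i₂.left G.hom
    haveI : QuasiCompact i₂.left := by
      haveI : QuasiCompact (i₂.left ≫ G.hom) := by rw [Over.w i₂]; infer_instance
      exact QuasiCompact.of_comp i₂.left G.hom
    exact exists_nhd_fac i₁ i₂ inferInstance inferInstance hst

end Groth.Agent.Lib.SubEq
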