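import Groth.Agent.Lib.SubEq.TorsFP
import Groth.Agent.Lib.SubEq.Transfer
import Groth.Agent.Lib.CentralNhd.Nhd
import Groth.Agent.H87.Charts

/-!
# Torsion points of one subgroup lie in the other, Noetherian base
-/

set_option autoImplicit false
set_option linter.style.haveILetI false

universe u

open CategoryTheory MonoidalCategory CartesianMonoidalCategory MonObj GrpObj AlgebraicGeometry
open CategoryTheory.Limits
open Groth.Agent.Lib.RedPts Groth.Agent.Lib.Tori Groth.Agent.H87 Groth.Agent.H87.CentralEq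
open Groth.Agent.Lib.CentralNhd

namespace Groth.Agent.Lib.SubEq

variable {S : Scheme.{u}} {G H₁ H₂ : Over S} [GrpObj G] [GrpObj H₁] [GrpObj H₂]
  (i₁ : H₁ ⟶ G) [IsMonHom i₁] (i₂ : H₂ ⟶ G) [IsMonHom i₂] [Mono i₂]

include i₂ in
/-- Central subgroups equal modulo a nilpotent ideal are equal. -/
theorem fac_of_artinian (h₁ : SGA3x.IsMultTypeFT H₁) (h₂ : SGA3x.IsMultTypeFT H₂) {R : CommRingCat.{u}}
    (t : Spec R ⟶ S) (J : Ideal R) (hJ : IsNilpotent J)
    (hfac : Fac i₁ i₂ (Spec.map (CommRingCat.ofHom (Ideal.Quotient.mk J)) ≫ t))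
    (hcent : CentralOn i₁ (Spec.map (CommRingCat.ofHom (Ideal.Quotient.mk J)) ≫ t)) :
    Fac i₁ i₂ t := by
  let π := Spec.map (CommRingCat.ofHom (Ideal.Quotient.mk J))
  haveI : IsClosedImmersion π := IsClosedImmersion.spec_of_surjective _ Ideal.Quotient.mk_surjective
  let K₁ := Red.bc t H₁
  let K₂ := Red.bc t H₂
  let G' := Red.bc t G
  let j₁ : K₁ ⟶ G' := (Over.pullback t).map i₁
  let j₂ : K₂ ⟶ G' := (Over.pullback t).map i₂
  have hK₁ : SGA3x.IsMultTypeFT K₁ := Normal.multTypeFT_bc h₁ t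
  have hK₂ : SGA3x.IsMultTypeFT K₂ := Normal.multTypeFT_bc h₂ t
  haveI : IsMonHom j₁ := inferInstance
  haveI : IsMonHom j₂ := inferInstance
  haveI : Mono j₂ := inferInstance
  have hG : TwC.Locally (Spec R) TwC.Topology.fpqc
      (fun S' f => ∃ (M : Type) (_ : AddCommGroup M), Nonempty (Grp.mk (Red.bc f K₁) ≅ Grp.mk (Red.DS S' M))) := by
    obtain ⟨S', f, hf, hs, hc, hloc⟩ := hK₁
    refine ⟨S', f, hf, hs, hc, fun x => ?_⟩
    obtain ⟨U, hU, M, iM, -, hM⟩ := hloc x
    exact ⟨U, hU, M, iM, hM⟩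
  have hcent' : ∀ (Y : Over (Spec R)) (_ : Y ⟶ Over.mk π) (gp : Y ⟶ K₁) (x : Y ⟶ G'),
      lift gp x ≫ (Fibres.conjAction j₁).act = x := by
    intro Y p gp x
    rw [Fibres.conjAction_act, mul_inv_eq_iff_eq_mul]
    suffices h' : ∀ (a : Y ⟶ Red.bc t H₁) (x' : Y ⟶ Red.bc t G),
        (a ≫ (Over.pullback t).map i₁) * x' = x' * (a ≫ (Over.pullback t).map i₁) from h' gp x
    intro a x'
    apply BC.down_injective
    rw [BC.down_mul, BC.down_mul, BC.down_map]
    exact (hcent _ ((Over.map t).map p ≫ Over.homMk (𝟙 _) ((Category.id_comp _).trans rfl)) _ _).symm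
  have hcen : ∀ (Y : Over (Spec R)) (gp : Y ⟶ K₁) (x : Y ⟶ G'), lift gp x ≫ (Fibres.conjAction j₁).act = x :=
    Rigid.act_trivial π (isNilpotent_ker J hJ) K₁ G' hG (Fibres.conjAction j₁) hcent'
  obtain ⟨S', f, hf, -, hc, hloc⟩ := Charts.exists_common_charts hK₁ hK₂
  haveI := hf
  obtain ⟨φ, hφ⟩ := fac_of_nilpotent j₁ j₂ (𝟙 (Spec R)) J hJ f hc (fun x => by
      obtain ⟨U, hU, M, N, iM, iN, -, -, hM, hN⟩ := hloc x
      exact ⟨U, hU, M, N, iM, iN, hM, hN⟩)
    (fun X h h' => by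
      have := hcen X h (h' ≫ j₂)
      rwa [Fibres.conjAction_act, mul_inv_eq_iff_eq_mul] at this)
    (fun Y ⟨q, hq⟩ gp => by
      obtain ⟨y, hy⟩ := hfac ((Over.map t).obj Y) (Over.homMk q (by
        show q ≫ π ≫ t = Y.hom ≫ t
        rw [← Category.assoc, hq, Category.comp_id])) (BC.down t gp)
      refine ⟨BC.up t y, BC.down_injective ?_⟩
      rw [BC.down_map, BC.down_up, BC.down_map, hy])
  exact fac_of_bc_hom i₁ i₂ φ hφ

/-- Central subgroups equal at a point are equal on its infinitesimal neighbourhoods. -/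
theorem fac_infinitesimal (h₁ : SGA3x.IsMultTypeFT H₁) (h₂ : SGA3x.IsMultTypeFT H₂) (s : S)
    (hfac : Fac i₁ i₂ (S.fromSpecResidueField s)) (hcent : CentralOn i₁ (S.fromSpecResidueField s)) (n : ℕ) :
    Fac i₁ i₂ (Spec.map (CommRingCat.ofHom
      (Ideal.Quotient.mk (IsLocalRing.maximalIdeal (S.presheaf.stalk s) ^ (n + 1)))) ≫ S.fromSpecStalk s) := by
  let O := S.presheaf.stalk s
  let m := IsLocalRing.maximalIdeal O
  let Q := O ⧸ m ^ (n + 1)
  let J : Ideal Q := m.map (Ideal.Quotient.mk (m ^ (n + 1)))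
  have hJ : IsNilpotent J := ⟨n + 1, by rw [← Ideal.map_pow, Ideal.map_quotient_self]; rfl⟩
  let ρ : S.residueField s ⟶ CommRingCat.of (Q ⧸ J) := CommRingCat.ofHom
    (Ideal.Quotient.lift m ((Ideal.Quotient.mk J).comp (Ideal.Quotient.mk (m ^ (n + 1)))) fun z hz =>
      Ideal.Quotient.eq_zero_iff_mem.mpr (Ideal.mem_map_of_mem _ hz))
  have he : Spec.map ρ ≫ S.fromSpecResidueField s =
      Spec.map (CommRingCat.ofHom (Ideal.Quotient.mk J)) ≫
        Spec.map (CommRingCat.ofHom (Ideal.Quotient.mk (m ^ (n + 1)))) ≫ S.fromSpecStalk s := by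
    rw [Scheme.fromSpecResidueField, ← Category.assoc, ← Category.assoc, ← Spec.map_comp, ← Spec.map_comp]
    rfl
  exact fac_of_artinian i₁ i₂ h₁ h₂ (R := CommRingCat.of Q) _ J hJ
    (fac_congr i₁ i₂ he (fac_comp i₁ i₂ (Spec.map ρ) hfac))
    (centralOn_congr i₁ he (centralOn_comp i₁ (Spec.map ρ) hcent))

variable {A : CommRingCat.{u}} [IsLocalRing A] {g : Spec A ⟶ S} {M : Type} [AddCommGroup M] [AddGroup.FG M]
  (e₁ : Grp.mk (Red.bc g H₁) ≅ Grp.mk (Red.DS (Spec A) M))

set_option backward.isDefEq.respectTransparency false in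
set_option backward.isDefEq.respectTransparency.types false in
theorem torsFac_of_noetherian [IsLocallyNoetherian S] [IsImmersion i₂.left] (h₁ : SGA3x.IsMultTypeFT H₁)
    (h₂ : SGA3x.IsMultTypeFT H₂) (hfac : Fac i₁ i₂ (S.fromSpecResidueField (g (IsLocalRing.closedPoint A))))
    (hcent : CentralOn i₁ (S.fromSpecResidueField (g (IsLocalRing.closedPoint A))))
    {M₀ : Type} [AddCommGroup M₀] [Finite M₀] (φN : M →+ M₀) : TorsFac i₁ i₂ e₁ φN := by
  let s := g (IsLocalRing.closedPoint A)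
  haveI := MT.locallyOfFinitePresentation h₁
  haveI : IsLocallyNoetherian H₁.left := LocallyOfFiniteType.isLocallyNoetherian H₁.hom
  let j := pullback.fst i₁.left i₂.left
  have hloc : ∀ x : H₁.left, H₁.hom x = s →
      ∃ l : Spec (H₁.left.presheaf.stalk x) ⟶ pullback i₁.left i₂.left, l ≫ j = H₁.left.fromSpecStalk x := by
    intro x hx
    let O := H₁.left.presheaf.stalk x
    haveI : IsIso (pullback.snd j (H₁.left.fromSpecStalk x)) := by
      refine isIso_of_infinitesimal _ fun n => ?_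
      let π := Spec.map (CommRingCat.ofHom (Ideal.Quotient.mk (IsLocalRing.maximalIdeal O ^ (n + 1))))
      let O' := S.presheaf.stalk (H₁.hom x)
      let ρ : O' ⧸ IsLocalRing.maximalIdeal O' ^ (n + 1) →+* O ⧸ IsLocalRing.maximalIdeal O ^ (n + 1) :=
        Ideal.quotientMap _ (H₁.hom.stalkMap x).hom (Ideal.map_le_iff_le_comap.mp (by
          rw [Ideal.map_pow]
          refine Ideal.pow_right_mono (Ideal.map_le_iff_le_comap.mpr fun z hz => ?_) _
          exact map_nonunit (H₁.hom.stalkMap x).hom z hz))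
      have he : Spec.map (CommRingCat.ofHom ρ) ≫ Spec.map (CommRingCat.ofHom
          (Ideal.Quotient.mk (IsLocalRing.maximalIdeal O' ^ (n + 1)))) ≫ S.fromSpecStalk (H₁.hom x) =
          (π ≫ H₁.left.fromSpecStalk x) ≫ H₁.hom := by
        rw [Category.assoc, ← Scheme.SpecMap_stalkMap_fromSpecStalk, ← Category.assoc, ← Category.assoc,
          ← Spec.map_comp, ← Spec.map_comp]
        rfl
      have hf := fac_congr i₁ i₂ he (fac_comp i₁ i₂ _ (fac_infinitesimal i₁ i₂ h₁ h₂ (H₁.hom x)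
        (hx ▸ hfac) (hx ▸ hcent) n))
      obtain ⟨y, hy⟩ := hf (Over.mk ((π ≫ H₁.left.fromSpecStalk x) ≫ H₁.hom)) (𝟙 _)
        (Over.homMk (π ≫ H₁.left.fromSpecStalk x))
      refine ⟨pullback.lift (pullback.lift (π ≫ H₁.left.fromSpecStalk x) y.left congr(($hy).left).symm) π
        (pullback.lift_fst _ _ _), pullback.lift_snd _ _ _⟩
    exact ⟨inv (pullback.snd j (H₁.left.fromSpecStalk x)) ≫ pullback.fst _ _, by
      rw [Category.assoc, pullback.condition, IsIso.inv_hom_id_assoc]⟩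
  let D := Red.DS (Spec A) M₀
  haveI := isFinite_DS A M₀
  haveI : IsAffine D.left := isAffine_of_isAffineHom D.hom
  let P : (Over.map g).obj D ⟶ H₁ := BC.down g (Red.DSmap (Spec A) φN ≫ (BaseChange.overIso e₁).inv)
  let B : CommRingCat.{u} := Γ(D.left, ⊤)
  let is := D.left.isoSpec
  obtain ⟨l, hl⟩ := exists_lift_of_local j (B := B) (is.inv ≫ P.left) fun m hm => by
    let C := Localization.AtPrime m
    let c := Spec.map (CommRingCat.ofHom (algebraMap B C))
    let x := (c ≫ is.inv ≫ P.left) (IsLocalRing.closedPoint C)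
    have hx : H₁.hom x = s := by
      show ((c ≫ is.inv ≫ P.left) ≫ H₁.hom) (IsLocalRing.closedPoint C) = s
      have hw : (c ≫ is.inv ≫ P.left) ≫ H₁.hom = (c ≫ is.inv) ≫ D.hom ≫ g := by
        rw [Category.assoc, Category.assoc, Category.assoc, Over.w P]
        rfl
      rw [hw, Scheme.Hom.comp_apply, Scheme.Hom.comp_apply]
      refine congrArg g (hom_eq_closedPoint _ ?_)
      have hcl : IsClosed ({(⟨m, hm.isPrime⟩ : PrimeSpectrum B)} : Set (PrimeSpectrum B)) :=
        (PrimeSpectrum.isClosed_singleton_iff_isMaximal _).mpr hm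
      have hmm : c (IsLocalRing.closedPoint C) = (⟨m, hm.isPrime⟩ : PrimeSpectrum B) :=
        PrimeSpectrum.ext (Localization.AtPrime.under_maximalIdeal (I := m))
      rw [Scheme.Hom.comp_apply, hmm, ← Set.image_singleton]
      exact (Scheme.Hom.homeomorph is.inv).isClosedMap _ hcl
    obtain ⟨φ, hφ⟩ := exists_fac_fromSpecStalk x (c ≫ is.inv ≫ P.left) fun r =>
      (IsLocalRing.specializes_closedPoint r).map (c ≫ is.inv ≫ P.left).continuous
    obtain ⟨l, hl⟩ := hloc x hx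
    exact ⟨Spec.map φ ≫ l, by rw [Category.assoc, hl, hφ]⟩
  have hw : (is.hom ≫ l) ≫ j = P.left := by rw [Category.assoc, hl, Iso.hom_inv_id_assoc]
  have hP : ∃ y : (Over.map g).obj D ⟶ H₂, y ≫ i₂ = P ≫ i₁ := by
    refine ⟨Over.homMk ((is.hom ≫ l) ≫ pullback.snd i₁.left i₂.left) ?_, ?_⟩
    · rw [Category.assoc, ← Over.w i₂, ← pullback.condition_assoc, Over.w i₁, ← Category.assoc]
      rw [hw]
      exact Over.w P
    · apply Over.OverMorphism.ext
      show ((is.hom ≫ l) ≫ pullback.snd i₁.left i₂.left) ≫ i₂.left = P.left ≫ i₁.left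
      rw [Category.assoc, ← pullback.condition, ← Category.assoc, hw]
  intro T gp
  obtain ⟨y, hy⟩ := hP
  refine ⟨(Over.map g).map gp ≫ y, ?_⟩
  rw [Category.assoc, hy, BC.down_comp, Category.assoc]

end Groth.Agent.Lib.SubEq
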